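import Mathlib
import Cfsg.Agent.Block.AbFrob
import Cfsg.Agent.Block.OneCl
import Cfsg.Agent.Block.Dade
import Cfsg.Agent.Block.Quot4
import Cfsg.Agent.Block.Knorr2
import Cfsg.Agent.Block.Nilp
import Cfsg.Agent.Block.PIdx
import Cfsg.Agent.Block.AbCov

/-! Counting in principal blocks with abelian Sylow subgroups. -/

set_option autoImplicit false

namespace Cfsg.Agent.Blk2

open Cfsg Cfsg.Agent.Char Cfsg.Agent.Block Subgroup
open scoped _root_.Classical ComplexConjugate

variable {G : Type*} [Group G] {p : ℕ} {M : Ideal AlgInt} {P H L : Subgroup G}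

/-- centralizer -/
abbrev CC (P : Subgroup G) : Subgroup G := centralizer (P : Set G)
/-- normalizer -/
abbrev NN (P : Subgroup G) : Subgroup G := normalizer (P : Set G)
/-- centralizer of an element -/
abbrev Cx (x : G) : Subgroup G := centralizer ({x} : Set G)
/-- inertial index -/
noncomputable abbrev ee (P : Subgroup G) : ℕ := (CC P).relIndex (NN P)
/-- inertial index in a subgroup -/
noncomputable abbrev eH (P H : Subgroup G) : ℕ := (CC P).relIndex (NN P ⊓ H)
/-- `k(B₀)` -/
noncomputable abbrev kk (M : Ideal AlgInt) (G : Type*) [Group G] : ℕ :=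
  Nat.card (principalBlock M G)
/-- `l(B₀)` -/
noncomputable abbrev ll (p : ℕ) (M : Ideal AlgInt) (G : Type*) [Group G] : ℕ :=
  blockRank p (principalBlock M G)

theorem mem_Cx {x g : G} : g ∈ Cx x ↔ g * x = x * g := mem_centralizer_singleton_iff

theorem mem_Cx' {x g : G} : g ∈ Cx x ↔ g * x * g⁻¹ = x := by
  rw [mem_Cx, mul_inv_eq_iff_eq_mul]

theorem CC_le_Cx {x : G} (hx : x ∈ P) : CC P ≤ Cx x := fun _ h => mem_Cx.2 (h x hx).symm

theorem CC_le_NN : CC P ≤ NN P := centralizer_le_normalizer _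

theorem conj_mem {n x : G} (hn : n ∈ NN P) (hx : x ∈ P) : n * x * n⁻¹ ∈ P := (hn x).1 hx

theorem CC_sub (hH : P ≤ H) : CC (P.subgroupOf H) = (CC P).subgroupOf H :=
  Subgroup.ext fun x => mem_centralizer_subgroupOf_iff hH x

theorem NN_sub (hH : P ≤ H) : NN (P.subgroupOf H) = (NN P).subgroupOf H :=
  (subgroupOf_normalizer_eq hH).symm

theorem ee_sub (hH : P ≤ H) : ee (P.subgroupOf H) = eH P H := by
  rw [ee, CC_sub hH, NN_sub hH, ← inf_subgroupOf_right (NN P), relIndex_subgroupOf inf_le_right]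

theorem eH_of_le (h : NN P ≤ H) : eH P H = ee P := by rw [eH, inf_eq_left.2 h]

theorem eH_mul (P H : Subgroup G) : eH P H *
    (H.subgroupOf (NN P) ⊔ (CC P).subgroupOf (NN P)).index = ee P := by
  have := relIndex_mul_index (le_sup_right (a := H.subgroupOf (NN P)) (b := (CC P).subgroupOf (NN P)))
  rwa [relIndex_sup_right, ← inf_subgroupOf_left H, relIndex_subgroupOf inf_le_left,
    inf_subgroupOf_left] at this

theorem eH_dvd (P H : Subgroup G) : eH P H ∣ ee P := ⟨_, (eH_mul P H).symm⟩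

variable [Finite G]

theorem ee_pos (P : Subgroup G) : 0 < ee P := Nat.pos_of_ne_zero index_ne_zero_of_finite

theorem eH_pos (P H : Subgroup G) : 0 < eH P H := Nat.pos_of_ne_zero index_ne_zero_of_finite

theorem le_sup_of_eH (h : ee P ≤ eH P H) : NN P ≤ H ⊔ CC P := fun n hn => by
  have h1 := eH_mul P H
  rw [le_antisymm (Nat.le_of_dvd (ee_pos P) (eH_dvd P H)) h, mul_eq_left₀ (ee_pos P).ne',
    index_eq_one] at h1
  have h2 : (H ⊔ CC P).subgroupOf (NN P) = ⊤ :=
    top_le_iff.1 (h1 ▸ sup_le (comap_mono le_sup_left) (comap_mono le_sup_right))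
  exact subgroupOf_eq_top.1 h2 hn

theorem ab_sylow [hp : Fact p.Prime] (S : Sylow p G) (h : IsMulCommutative (S : Subgroup G)) :
    AbSyl p (S : Subgroup G) :=
  ⟨hp.out, S.isPGroup', S.not_dvd_index, fun _ hx _ hy => setLike_mul_comm hy hx⟩

omit [Finite G] in
theorem le_Cx (h : AbSyl p P) {x : G} (hx : x ∈ P) : P ≤ Cx x := h.comm.trans (CC_le_Cx hx)

theorem exists_sylow (h : AbSyl p P) : ∃ S : Sylow p G, (S : Subgroup G) = P :=
  have := Fact.mk h.prime
  ⟨h.pg.toSylow h.ind, rfl⟩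

theorem ab_sub (h : AbSyl p P) (hH : P ≤ H) : AbSyl p (P.subgroupOf H) :=
  ⟨h.prime, h.pg.comap_subtype, h.not_dvd_relIndex H hH,
    fun _ hx _ hy => Subtype.ext (h.comm hx _ hy)⟩

theorem ab_normal (h : AbSyl p P) (L : Subgroup G) [L.Normal] : AbSyl p (P.subgroupOf L) :=
  ⟨h.prime, h.pg.comap_subtype,
    fun k => h.ind (k.trans (Transfer.relIndex_dvd_index_of_normal_right P L)),
    fun _ hx _ hy => Subtype.ext (h.comm hx _ hy)⟩

theorem ab_order (h : AbSyl p P) {x : G} (hx : x ∈ P) : ∃ k, orderOf x = p ^ k :=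
  exists_orderOf_eq_pow_of_mem h.prime h.pg hx

theorem exists_conj (h : AbSyl p P) {x y : G} (hx : x ∈ P) (hy : y ∈ P) (hc : IsConj x y) :
    ∃ n ∈ NN P, n * x * n⁻¹ = y := by
  obtain ⟨n, hn⟩ := h.exists_cP (x := ⟨x, hx⟩) (y := ⟨y, hy⟩) hc
  exact ⟨n, n.2, congrArg Subtype.val hn⟩

theorem not_dvd_ee (h : AbSyl p P) : ¬ p ∣ ee P := fun k =>
  h.not_dvd_relIndex (NN P) le_normalizer (k.trans (relIndex_dvd_of_le_left _ h.comm))

theorem frattini (h : AbSyl p P) [L.Normal] (hL : P ≤ L) : L ⊔ NN P = ⊤ := by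
  obtain ⟨S, rfl⟩ := exists_sylow h
  have := Fact.mk h.prime
  rw [sup_comm]
  exact S.normalizer_sup_eq_top' hL

theorem npc_of_le (h : AbSyl p P) (hH : P ≤ H) (h1 : NN P ⊓ H ≤ CC P) :
    HasNormalPComplement p H := by
  have := Fact.mk h.prime
  obtain ⟨S, hS⟩ := exists_sylow (ab_sub h hH)
  refine Transfer.hasNormalPComplement_of_normalizer_le_centralizer S ?_
  change NN (S : Subgroup H) ≤ CC (S : Subgroup H)
  rw [hS, NN_sub hH, CC_sub hH]
  exact fun x hx => h1 ⟨hx, x.2⟩

theorem le_of_npc (h : AbSyl p P) (hH : P ≤ H) (h1 : HasNormalPComplement p H) :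
    NN P ⊓ H ≤ CC P := fun n hn x hx => by
  have := Fact.mk h.prime
  obtain ⟨S, hS⟩ := exists_sylow (ab_sub h hH)
  obtain ⟨v, hv, e⟩ := Transfer.control_of_isComplement' (Transfer.isComplement'_pResidual h1 S)
    (x := ⟨x, hH hx⟩) (g := ⟨n, hn.2⟩) (hS ▸ hx)
    (hS ▸ (show n * x * n⁻¹ ∈ P from conj_mem hn.1 hx))
  replace hv : (v : G) ∈ P := by rwa [hS] at hv
  have e' : (v : G) * x * (v : G)⁻¹ = n * x * n⁻¹ := congrArg Subtype.val e
  rw [mem_Cx'.1 (le_Cx h hx hv)] at e'
  exact eq_mul_inv_iff_mul_eq.1 e'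

theorem ll_of_npc (hM : IsPModular p M) (h : HasNormalPComplement p G) : ll p M G = 1 :=
  blockRank_eq_one_of_mul hM.1 ⟨_, oneIrr_mem_principalBlock hM⟩ (f := fun _ => 1) fun χ hχ =>
    ⟨χ.1 1, fun g hg => by
      rw [mul_one]
      exact apply_eq_of_mem_charKer
        (pPrimeCore_le_charKer hM hχ (mem_pPrimeCore_of_complement hM.1 h hg))⟩

theorem npc_of_ll (hM : IsPModular p M) (h : ll p M G = 1) : HasNormalPComplement p G := by
  have := Fact.mk hM.1
  refine Transfer.hasNormalPComplement_iff_mul.2 fun x y hx hy => ?_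
  have k : ∀ {g : G}, (orderOf g).Coprime p → g ∈ pPrimeCore p G := fun hg =>
    regular_mem_pPrimeCore_of_rank_one hM h ((hM.1.coprime_iff_not_dvd).1 hg.symm)
  exact (Core.pPrimeCore_coprime p).coprime_dvd_left
    (orderOf_dvd_natCard _ (mul_mem (k hx) (k hy)))

theorem kk_congr {G' : Type*} [Group G'] (e : G ≃* G') : kk M G = kk M G' := by
  rw [kk, ← compSet_principalBlock e, card_compSet]

theorem ll_congr {G' : Type*} [Group G'] [Finite G'] (e : G ≃* G') : ll p M G = ll p M G' := by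
  rw [ll, ← compSet_principalBlock e, blockRank_compSet]

theorem ll_Cx_one : ll p M (Cx (1 : G)) = ll p M G :=
  ll_congr ((MulEquiv.subgroupCongr (by ext; simp [mem_Cx])).trans topEquiv)

/-- Brauer's formula without representatives. -/
theorem ee_mul_kk (hM : IsPModular p M) (h : AbSyl p P) [Fintype P] :
    ee P * kk M G = ∑ x : P, eH P (Cx (x : G)) * ll p M (Cx (x : G)) := by
  have hB := isV_blockIdem hM (isPBlock_principalBlock (G := G))
  have hi : ∀ x : P, ll p M (Cx (x : G)) =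
      blockRank p (indSet M (Cx (x : G)) (principalBlock M G)) := fun x => by
    rw [indSet_principal hM (exists_induced_centralizer_singleton hM (ab_order h x.2)
      isPBlock_principalBlock)]
  obtain ⟨R, hR⟩ := exists_isReps (G := NN P) (S := (Finset.univ : Finset P)) (by simp)
  have h1 := hR.sum_eq (A := ℕ) (F := fun x => ll p M (Cx (x : G))) fun r _ g => by
    rw [hi, hi]
    exact (blockRank_indSet_conj hM hB (ab_order h r.2) (isConj_iff.2 ⟨g, rfl⟩)).symm
  have h2 := card_eq_sum_blockRank hM hB (X := R.image (↑)) (fun x hx => ?_) fun g hg => ?_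
  · rw [Finset.sum_image fun _ _ _ _ => Subtype.ext, ← Finset.sum_congr rfl fun x _ => hi x] at h2
    have hc : 0 < Nat.card (CC P) := Nat.card_pos
    refine Nat.eq_of_mul_eq_mul_left hc ?_
    rw [← mul_assoc, kk, h2, Core.card_mul_relIndex CC_le_NN, Finset.mul_sum Finset.univ]
    refine h1.symm.trans (Finset.sum_congr rfl fun x _ => ?_)
    rw [← mul_assoc, Core.card_mul_relIndex (le_inf CC_le_NN (CC_le_Cx x.2)), inf_comm,
      ← Transfer.card_subgroupOf_eq]
    rw [show MulAction.stabilizer (NN P) x = (Cx (x : G)).subgroupOf (NN P) from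
      Subgroup.ext fun n => Subtype.ext_iff.trans mem_Cx'.symm, Nat.cast_id]
  · obtain ⟨y, -, rfl⟩ := Finset.mem_image.1 hx
    exact ab_order h y.2
  · obtain ⟨y, hy⟩ := h.exists_conj_mem hg
    obtain ⟨r, hr, n, hn⟩ := hR.exu ⟨_, hy⟩ (Finset.mem_univ _)
    have k : IsConj g r := (isConj_iff.2 ⟨y, rfl⟩).trans
      (isConj_iff.2 ⟨(n : G), congrArg Subtype.val hn⟩).symm
    refine ⟨r, ⟨Finset.mem_image_of_mem _ hr, k⟩, fun z hz => ?_⟩
    obtain ⟨s, hs, rfl⟩ := Finset.mem_image.1 hz.1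
    obtain ⟨m, hm, e⟩ := exists_conj h s.2 r.2 (hz.2.symm.trans k)
    exact congrArg Subtype.val (hR.uniq s hs r hr ⟨m, hm⟩ (Subtype.ext e))

section quot

variable {Q : Type*} [Group Q] [Finite Q] {f : G →* Q}

omit [Finite Q] in
theorem ab_map (h : AbSyl p P) (hf : Function.Surjective f) : AbSyl p (P.map f) :=
  ⟨h.prime, h.pg.map f, fun k => h.ind (k.trans (index_map_dvd P hf)), by
    rintro _ ⟨x, hx, rfl⟩ _ ⟨y, hy, rfl⟩
    rw [← map_mul, ← map_mul, h.comm hx y hy]⟩

omit [Finite Q] in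
theorem NN_map (h : AbSyl p P) (hf : Function.Surjective f) : NN (P.map f) = (NN P).map f := by
  refine le_antisymm (fun q hq => ?_) (le_normalizer_map f)
  obtain ⟨g, rfl⟩ := hf q
  have := Fact.mk h.prime
  have h1 : LocalEven.IsSylowIn p P ((P.map f).comap f) :=
    LocalEven.isSylowIn_of_not_dvd (le_comap_map f P) h.pg
      (h.not_dvd_relIndex _ (le_comap_map f P))
  obtain ⟨k, ⟨y, hy, e⟩, x, hx, rfl⟩ := h1.frattini (le_normalizer_comap f (show g ∈ comap f _ from hq))
  exact ⟨y * x, mul_mem (le_normalizer hy) hx, by rw [map_mul, map_mul, e]⟩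

omit [Finite Q] in
theorem ee_map (h : AbSyl p P) (hf : Function.Surjective f)
    (H : ∀ n ∈ NN P, ∀ x ∈ P, f n * f x = f x * f n → n * x = x * n) : ee (P.map f) = ee P := by
  rw [ee, NN_map h hf, ← relIndex_comap, ee, ← inf_relIndex_right, ← inf_relIndex_right (CC P)]
  congr 1
  ext n
  refine and_congr_left fun hn => ⟨fun k x hx => (H n hn x hx (k _ ⟨x, hx, rfl⟩).symm).symm, ?_⟩
  rintro k _ ⟨x, hx, rfl⟩
  rw [← map_mul, k x hx, map_mul]

omit [Finite Q] in
theorem zz_map (h : AbSyl p P) (hf : Function.Surjective f)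
    (H : ∀ n ∈ NN P, ∀ x ∈ P, f n * f x = f x * f n → n * x = x * n) :
    (CC (NN (P.map f))).relIndex (P.map f) = (CC (NN P)).relIndex P := by
  rw [NN_map h hf, ← relIndex_comap, ← inf_relIndex_right, ← inf_relIndex_right (CC (NN P))]
  congr 1
  ext x
  refine and_congr_left fun hx => ⟨fun k n hn => H n hn x hx (k _ ⟨n, hn, rfl⟩), ?_⟩
  rintro k _ ⟨n, hn, rfl⟩
  rw [← map_mul, k n hn, map_mul]

omit [Finite Q] in
theorem comm_of_odd (h : AbSyl p P) (hk : ¬ p ∣ Nat.card f.ker) :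
    ∀ n ∈ NN P, ∀ x ∈ P, f n * f x = f x * f n → n * x = x * n := fun n hn x hx e => by
  have h1 : n * x * n⁻¹ * x⁻¹ ∈ f.ker := by simp [MonoidHom.mem_ker, e]
  have h2 := eq_one_of_isPGroup_of_not_dvd h.prime h.pg (mul_mem (conj_mem hn hx) (inv_mem hx))
    fun k => hk (k.trans (orderOf_dvd_natCard _ h1))
  rwa [mul_inv_eq_one, mul_inv_eq_iff_eq_mul] at h2

theorem principal_odd (hM : IsPModular p M) (hf : Function.Surjective f)
    (hk : ¬ p ∣ Nat.card f.ker) : principalBlock M G = inflIrr f hf '' principalBlock M Q := by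
  ext χ
  refine ⟨fun h => ?_, fun ⟨ψ, h, e⟩ => e ▸ inflIrr_mem_principal hM f hf h⟩
  rw [principalBlock_eq, ← inflIrr_oneIrr f hf] at h
  obtain ⟨ψ, rfl, k⟩ := exists_inflIrr_of_sameBlock hM hf hk h
  exact ⟨ψ, k, rfl⟩

theorem kk_odd (hM : IsPModular p M) (hf : Function.Surjective f) (hk : ¬ p ∣ Nat.card f.ker) :
    kk M Q = kk M G := by
  rw [kk, kk, principal_odd hM hf hk, Nat.card_image_of_injective (inflIrr_injective f hf)]

theorem blockRank_mono {A B : Set (IrrCharacter G)} (h : A ⊆ B) : blockRank p A ≤ blockRank p B :=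
  have : FiniteDimensional ℂ (regSpan p B) := FiniteDimensional.span_of_finite ℂ (Set.toFinite _)
  Submodule.finrank_mono (Submodule.span_mono (Set.image_mono h) : regSpan p A ≤ regSpan p B)

theorem ll_le (hM : IsPModular p M) (hf : Function.Surjective f) : ll p M Q ≤ ll p M G :=
  (blockRank_mono fun _ h => mem_domSet.2 (inflIrr_mem_principal hM f hf h)).trans
    (blockRank_domSet_le (B := principalBlock M G) hM.1 hf)

theorem ll_odd (hM : IsPModular p M) (hf : Function.Surjective f) (hk : ¬ p ∣ Nat.card f.ker) :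
    ll p M Q = ll p M G := by
  refine le_antisymm (ll_le hM hf) ?_
  have : FiniteDimensional ℂ (regSpan p (principalBlock M Q)) :=
    FiniteDimensional.span_of_finite ℂ (Set.toFinite _)
  refine le_trans (Submodule.finrank_mono (?_ : regSpan p (principalBlock M G) ≤
    (regSpan p (principalBlock M Q)).map (pRegL p G ∘ₗ LinearMap.funLeft ℂ ℂ f)))
    (Submodule.finrank_map_le _ _)
  rw [Submodule.span_le, principal_odd hM hf hk]
  rintro _ ⟨_, ⟨ψ, hψ, rfl⟩, rfl⟩
  refine ⟨_, Submodule.subset_span ⟨_, hψ, rfl⟩, funext fun g => ?_⟩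
  change pRegularPart p (fun g => pRegularPart p ψ.1 (f g)) g = pRegularPart p _ g
  by_cases h : p ∣ orderOf g
  · rw [pRegularPart_of_dvd h, pRegularPart_of_dvd h]
  · rw [pRegularPart_of_not_dvd h, pRegularPart_of_not_dvd h,
      pRegularPart_of_not_dvd (regular_map_of_regular f h)]
    rfl

theorem ll_central (hM : IsPModular p M) (hf : Function.Surjective f) (hk : IsPGroup p f.ker)
    (hz : f.ker ≤ center G) : ll p M Q = ll p M G := by
  have hc : ∀ g, ¬ p ∣ orderOf g → g ∈ centralizer (f.ker : Set G) := fun g _ x hx =>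
    (mem_center_iff.1 (hz hx) g).symm
  rw [ll, ll, ← blockRank_domSet hM hf hk hc (isV_blockIdem hM isPBlock_principalBlock)]
  congr 1
  exact block_eq_of_mem hM isPBlock_principalBlock
    (isPBlock_domSet_of_centralizer hM hf hk hc isPBlock_principalBlock) (χ := oneIrr _)
    (oneIrr_mem_principalBlock hM) (oneIrr_mem_principalBlock (G := G) hM)

end quot

theorem rank_univ (hM : IsPModular p M) (h : ¬ p ∣ Nat.card G) :
    blockRank p (Set.univ : Set (IrrCharacter G)) = Nat.card (IrrCharacter G) := by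
  have := Fintype.ofFinite G
  have h1 := blockRank_eq_sum hM (isV_blockIdem_of_not_dvd hM h Set.univ)
  rw [Finset.sum_congr rfl (g := fun _ => 1) fun χ _ => ?_] at h1
  · simpa using h1
  · rw [show pRegularPart p χ.1 = χ.1 from funext fun g =>
      pRegularPart_of_not_dvd fun k => h (k.trans (orderOf_dvd_natCard g))]
    exact classInner_isIrr_self χ.2

theorem ee_le_ll (hM : IsPModular p M) (h : AbSyl p P) [P.Normal]
    (hc : ⁅NN P, NN P⁆ ≤ CC P) : ee P ≤ ll p M G := by
  have := Fact.mk h.prime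
  obtain ⟨S, rfl⟩ := exists_sylow h
  have hN : NN (S : Subgroup G) = ⊤ := normalizer_eq_top _
  have e1 : ee (S : Subgroup G) = Nat.card (G ⧸ CC (S : Subgroup G)) := by
    rw [ee, hN, relIndex_top_right, index]
  have : IsMulCommutative (G ⧸ CC (S : Subgroup G)) :=
    Subgroup.Normal.quotient_commutative_iff_commutator_le.2 (by rwa [hN] at hc)
  have hf := QuotientGroup.mk'_surjective (CC (S : Subgroup G))
  rw [e1, ← card_irr_of_comm, ← rank_univ hM (e1 ▸ not_dvd_ee h)]
  refine (blockRank_mono fun χ _ => mem_domSet.2 ?_).trans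
    (blockRank_domSet_le (B := principalBlock M G) hM.1 hf)
  refine mem_principal_of_centralizer_le hM S ?_
    ((QuotientGroup.ker_mk' _).ge.trans (ker_le_charKer_inflIrr _ hf χ))
  rw [charDegree_inflIrr, charDegree_of_eq (n := 1) (by simpa using isIrr_degree_one_of_comm χ.2)]
  exact h.prime.not_dvd_one

theorem kk_dade (hM : IsPModular p M) (h : AbSyl p P) [L.Normal] (hL : P ≤ L)
    (hs : L ⊔ CC P = ⊤) : kk M G = kk M L := by
  have := Fact.mk h.prime
  obtain ⟨S, rfl⟩ := exists_sylow h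
  obtain ⟨h1, h2⟩ := alperin_dade hM (fun k => h.ind (k.trans (index_dvd_of_le hL))) S hs
  rw [kk, card_eq_mul_of_res (k := 1) h1 fun θ hθ => ?_, one_mul]
  obtain ⟨χ, k1, k2⟩ := h2 θ hθ
  exact Nat.card_eq_one_iff_exists.2 ⟨⟨χ, k1⟩, fun ψ => Subtype.ext (k2 _ ψ.2)⟩

end Cfsg.Agent.Blk2
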