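import Mathlib
import Cfsg.Agent.Blk2.Basic
import Cfsg.Agent.Blk2.L2
import Cfsg.Agent.Block.Klein
import Cfsg.Agent.Block.ZStar
import Cfsg.Agent.S4512

/-! The principal `2`-block for abelian Sylow subgroups with a semifree inertial quotient. -/

set_option autoImplicit false

namespace Cfsg.Agent.Blk2

open Cfsg Cfsg.Agent.Char Cfsg.Agent.Block Subgroup
open scoped _root_.Classical ComplexConjugate

universe u

variable {G : Type u} [Group G] {p : ℕ} {M : Ideal AlgInt} {P H L : Subgroup G}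

/-- `N(P)/C(P)` acts freely on `P^#`. -/
def Free (P : Subgroup G) : Prop := ∀ x ∈ P, x ≠ 1 → NN P ⊓ Cx x ≤ CC P

theorem Free.frob (hf : Free P) (h : AbSyl p P) : AbFrob p P :=
  ⟨h, fun n x hx e => hf x x.2 (fun k => hx (Subtype.ext k))
    (mem_inf.2 ⟨n.2, mem_Cx'.2 (congrArg Subtype.val e)⟩)⟩

theorem Free.sub (hf : Free P) (hH : P ≤ H) : Free (P.subgroupOf H) := fun x hx h1 n hn => by
  rw [NN_sub hH] at hn
  rw [CC_sub hH]
  exact hf x hx (fun k => h1 (Subtype.ext k))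
    (mem_inf.2 ⟨hn.1, mem_Cx.2 (congrArg Subtype.val (mem_Cx.1 hn.2))⟩)

variable [Finite G]

theorem Free.le_of_mem (hf : Free P) (h : AbSyl p P) [L.Normal] {m : G} (hm : m ∈ NN P)
    (hL : m ∈ L) (h1 : m ∉ CC P) : P ≤ L := by
  let φ : P → (P ⊓ L : Subgroup G) := fun x => ⟨m * x * m⁻¹ * (x : G)⁻¹, mem_inf.2
    ⟨mul_mem (conj_mem hm x.2) (inv_mem x.2), by
      simpa [mul_assoc] using mul_mem hL (‹L.Normal›.conj_mem _ (inv_mem hL) x)⟩⟩
  have hφ : Function.Injective φ := fun x y e => by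
    by_contra k
    refine h1 (hf ((y : G)⁻¹ * x) (mul_mem (inv_mem y.2) x.2)
      (fun k' => k (Subtype.ext (inv_mul_eq_one.1 k').symm)) (mem_inf.2 ⟨hm, mem_Cx'.2 ?_⟩))
    have e' : m * x * m⁻¹ * (x : G)⁻¹ = m * y * m⁻¹ * (y : G)⁻¹ := congrArg Subtype.val e
    calc m * ((y : G)⁻¹ * x) * m⁻¹ = (m * y * m⁻¹)⁻¹ * (m * x * m⁻¹ * (x : G)⁻¹) * x := by group
      _ = _ := by rw [e']; group
  exact inf_eq_left.1 (LocalEven.eq_of_le_of_card_le inf_le_left (Nat.card_le_card_of_injective φ hφ))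

theorem exists_mem_of_not_npc (h : AbSyl p P) [L.Normal] (hL : ¬ HasNormalPComplement p L) :
    ∃ m ∈ NN P, m ∈ L ∧ m ∉ CC P := by
  have := Fact.mk h.prime
  by_contra! k
  refine hL (Transfer.hasNormalPComplement_of_le le_sup_left
    (npc_of_le h (le_sup_right (a := L)) fun n hn => ?_))
  obtain ⟨l, hl, y, hy, rfl⟩ := mem_sup_of_normal_left.1 hn.2
  exact mul_mem (k l ((mul_mem_cancel_right (le_normalizer hy)).1 hn.1) hl) (h.comm hy)

theorem sum_one {α : Type*} [Group α] [Fintype α] (F : α → ℕ) (h : ∀ x, x ≠ 1 → F x = 1) :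
    ∑ x, F x + 1 = F 1 + Nat.card α := by
  rw [← Finset.add_sum_erase _ _ (Finset.mem_univ 1), Finset.sum_congr rfl fun x hx =>
    h x (Finset.ne_of_mem_erase hx), Finset.sum_const, smul_eq_mul, mul_one, add_assoc,
    Finset.card_erase_add_one (Finset.mem_univ _), Finset.card_univ, Nat.card_eq_fintype_card]

theorem term_eq_one (hM : IsPModular p M) (h : AbSyl p P) {x : G} (hx : x ∈ P)
    (h1 : NN P ⊓ Cx x ≤ CC P) : eH P (Cx x) * ll p M (Cx x) = 1 := by
  rw [ll_of_npc hM (npc_of_le h (le_Cx h hx) h1), mul_one]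
  exact relIndex_eq_one.2 h1

theorem term_one : eH P (Cx (1 : G)) * ll p M (Cx (1 : G)) = ee P * ll p M G := by
  rw [ll_Cx_one, eH_of_le fun _ _ => by simp [mem_Cx]]

theorem Free.formula (hf : Free P) (hM : IsPModular p M) (h : AbSyl p P) :
    ee P * kk M G + 1 = ee P * ll p M G + Nat.card P := by
  have := Fintype.ofFinite P
  rw [ee_mul_kk hM h, sum_one (α := P) _ fun x hx =>
    term_eq_one hM h x.2 (hf x x.2 fun k => hx (Subtype.ext k)), coe_one, term_one]

theorem Free.ll_eq (hf : Free P) (hM : IsPModular p M) (h : AbSyl p P) (h0 : P ≠ ⊥)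
    (hl : ee P ≤ ll p M G) : ll p M G = ee P := by
  have := Fintype.ofFinite G
  have : Nontrivial (P →* ℂˣ) := Finite.one_lt_card_iff_nontrivial.1
    (h.card_hom ▸ (one_lt_card_iff_ne_bot P).2 h0)
  obtain ⟨lam, hlam⟩ := exists_ne (1 : P →* ℂˣ)
  have : Nonempty (NT P) := ⟨⟨lam, hlam⟩⟩
  obtain ⟨-, -, -, -, -, -, k, -⟩ :=
    ((hf.frob h).excSys hM).exists_data_of_rank hM isPBlock_principalBlock hl
  exact k

theorem Free.card (hf : Free P) (h : AbSyl p P) {x : G} (hx : x ∈ P) (h1 : x ≠ 1) :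
    ee P + 1 ≤ Nat.card P ∧ ((∀ y ∈ P, y ≠ 1 → IsConj x y) → ee P + 1 = Nat.card P) := by
  have := Fintype.ofFinite G
  have k := (hf.frob h).card_isConj (ab_order h hx) h1
  have k1 : (Finset.univ.filter fun y : P => IsConj x y) ⊆ Finset.univ.erase 1 := fun y hy =>
    Finset.mem_erase.2 ⟨fun e => h1 (by simpa [e] using hy), Finset.mem_univ _⟩
  rw [ee, ← k, Nat.card_eq_fintype_card, ← Finset.card_univ,
    ← Finset.card_erase_add_one (Finset.mem_univ (1 : P))]
  refine ⟨Nat.succ_le_succ (Finset.card_le_card k1), fun k2 => ?_⟩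
  rw [k1.antisymm fun y hy => Finset.mem_filter.2 ⟨Finset.mem_univ _,
    k2 y y.2 fun e => Finset.ne_of_mem_erase hy (Subtype.ext e)⟩]

theorem exists_vals (hM : IsPModular 2 M) (h : AbSyl 2 P) {t : G} (ht : t ∈ P) (t2 : t * t = 1)
    (hC : HasNormalPComplement 2 (Cx t)) : ∃ n : IrrCharacter G → ℤ, (∀ χ, χ.1 t = n χ) ∧
      (∀ χ ∈ principalBlock M G, 1 ≤ n χ ^ 2) ∧
      ∑ χ with χ ∈ principalBlock M G, n χ ^ 2 = Nat.card P := by
  choose n hn using fun ψ : IrrCharacter G =>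
    int_of_sq_mem_ker (irr_isChar ψ) (g := t) (by rw [t2])
  refine ⟨n, hn, fun χ hχ => Int.lt_iff_add_one_le.1 (sq_pos_iff.2 ?_), ?_⟩
  · obtain ⟨S, rfl⟩ := exists_sylow h
    obtain ⟨g, h1, h2⟩ := exists_apply_ne_zero_of_central hM isPBlock_principalBlock
      (isDefectGroup_principal_sylow hM S) ht (h.comm ht) hχ
    rwa [principal_const_on_section hM hC hχ ((pp_eq_iff Nat.prime_two).1 h1) (IsConj.refl _), hn,
      Int.cast_ne_zero] at h2
  · have := sum_principal_sq hM (ab_order h ht) hC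
    simp only [hn, map_intCast, ← sq] at this
    rw [← h.pow_factorization (le_Cx h ht)]
    exact_mod_cast this

theorem kk_le (hM : IsPModular 2 M) (h : AbSyl 2 P) {t : G} (ht : t ∈ P) (t2 : t * t = 1)
    (hC : HasNormalPComplement 2 (Cx t)) : kk M G ≤ Nat.card P := by
  obtain ⟨n, -, h1, h2⟩ := exists_vals hM h ht t2 hC
  have := Finset.card_nsmul_le_sum (Finset.univ.filter (· ∈ principalBlock M G)) _ _
    fun χ hχ => h1 χ (Finset.mem_filter.1 hχ).2
  rw [h2, nsmul_eq_mul, mul_one, ← card_eq_card_filter] at this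
  exact_mod_cast this

theorem One.isConj (h1 : One G) (h : AbSyl 2 P) {x y : G} (hx : x ∈ P) (x1 : x ≠ 1) (hy : y ∈ P)
    (y1 : y ≠ 1) : IsConj x y :=
  h1.conj x y (two_of_sq (h1.sq x (ab_order h hx)) x1) (two_of_sq (h1.sq y (ab_order h hy)) y1)

theorem sq_eq_one_of_dvd {q n ε : ℤ} (h4 : 4 ≤ q) (h1 : 1 ≤ n ^ 2) (h2 : n ^ 2 ≤ q)
    (hε : ε ^ 2 ≤ 1) (h : q ∣ ε - n) : n ^ 2 = 1 := by
  by_contra k
  have a1 : 2 ≤ |n| := by
    by_contra! k'
    have : |n| ≤ 1 := by omega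
    exact k (le_antisymm ((sq_le_one_iff_abs_le_one n).2 this) h1)
  have a2 : |ε| ≤ 1 := (sq_le_one_iff_abs_le_one ε).1 hε
  have a3 : 2 * |n| ≤ q := by nlinarith [sq_abs n]
  have a4 := Int.eq_zero_of_abs_lt_dvd h (by have := abs_sub ε n; omega)
  rw [sub_eq_zero.1 a4] at a2
  omega

theorem LE.val {S : Sylow 2 G} (h : LE S) (hM : IsPModular 2 M)
    (hS : AbSyl 2 (S : Subgroup G)) {t : G} (ht : t ∈ (S : Subgroup G)) (t1 : t ≠ 1)
    (hC : HasNormalPComplement 2 (Cx t)) : kk M G = Nat.card S := by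
  obtain ⟨n, h0, h1, h2⟩ := exists_vals hM hS ht (h.sq t (ab_order hS ht)) hC
  have k : ∀ χ ∈ Finset.univ.filter (· ∈ principalBlock M G), n χ ^ 2 = 1 := fun χ hχ => by
    have k1 := dvd_degree_sub_of_const (P := S) (irr_isChar χ) (n := n χ) fun x hx x1 => by
      rw [← h0]
      exact classFun_isConj (irr_classFun χ) (h.isConj hS hx x1 ht t1)
    have k2 := Finset.single_le_sum (f := fun χ => n χ ^ 2) (fun _ _ => sq_nonneg _) hχ
    have k3 := h1 χ (Finset.mem_filter.1 hχ).2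
    have k4 : (4 : ℤ) ≤ Nat.card S := by exact_mod_cast h.four
    rw [h2] at k2
    obtain ⟨c, hc⟩ := k1
    rcases h.deg χ with e | e | e | e <;> zify at e
    · exact sq_eq_one_of_dvd k4 k3 k2 (ε := 1) le_rfl ⟨c, by linear_combination hc - e⟩
    · exact sq_eq_one_of_dvd k4 k3 k2 (ε := -1) le_rfl ⟨c - 1, by linear_combination hc - e⟩
    · exact sq_eq_one_of_dvd k4 k3 k2 (ε := 0) zero_le_one ⟨c - 1, by linear_combination hc - e⟩
    · exact sq_eq_one_of_dvd k4 k3 k2 (ε := 1) le_rfl ⟨c - 1, by linear_combination hc - e⟩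
  rw [Finset.sum_congr rfl k, Finset.sum_const, nsmul_eq_mul, mul_one, ← card_eq_card_filter] at h2
  exact_mod_cast h2

theorem ll_four (hM : IsPModular 2 M) (h : AbSyl 2 P) (h1 : One G) (h4 : Nat.card P = 4) :
    ll 2 M G = 3 := by
  obtain ⟨S, rfl⟩ := exists_sylow h
  exact S4512.result M hM S h4 (fun x => Subtype.ext (h1.sq x (ab_order h x.2))) h1.conj

theorem solv_of_npc (h : HasNormalPComplement 2 G) : Group.IsSolvable G := by
  have := S0205.result (G := pResidual 2 G) (Nat.odd_iff.2 (Nat.two_dvd_ne_zero.1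
    (Transfer.hasNormalPComplement_iff_not_dvd.1 h)))
  have : Group.IsNilpotent (G ⧸ pResidual 2 G) :=
    (Transfer.isPGroup_quotient_pResidual (p := 2)).isNilpotent
  exact Group.isSolvable_of_ker_le_range (pResidual 2 G).subtype
    (QuotientGroup.mk' (pResidual 2 G)) (by simp)

theorem mem_zp {z g : G} (z2 : orderOf z = 2) (h : g ∈ zpowers z) : g = 1 ∨ g = z := by
  have := mem_zpowers_iff_mem_range_orderOf.1 h
  simpa [z2, Finset.range_add_one, eq_comm, or_comm] using this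

theorem not_npc_JR (h : Gs.JR G) {t : G} (ht : orderOf t = 2) :
    ¬ HasNormalPComplement 2 (Cx t) := fun k => by
  obtain ⟨E, E₀, h1⟩ := h.shape t ht
  have := h1.simple
  have := solv_of_npc (Transfer.hasNormalPComplement_of_le (GsC.JRC_le h1) k)
  exact h1.nab ⟨⟨IsSimpleGroup.comm_iff_isSolvable.2 this⟩⟩

theorem Free.simple [IsSimpleGroup G] (hf : Free P) (hM : IsPModular 2 M) (h : AbSyl 2 P)
    (hn : ¬ IsMulCommutative G) : ll 2 M G = ee P ∧ Nat.card P = ee P + 1 := by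
  obtain ⟨S, rfl⟩ := exists_sylow h
  have h1 := one_simple hn S h.isMulCommutative
  obtain ⟨t, ht, t2⟩ := LocalEven.exists_mem_orderOf_eq_of_ne_bot h.pg (GsC.syl_ne_bot hn S)
  have t1 := LocalEven.ne_one_of_orderOf_eq t2
  have h2 := (hf.card h ht t1).2 fun y hy y1 => h1.isConj h ht t1 hy y1
  have hC := npc_of_le h (le_Cx h ht) (hf t ht t1)
  refine ⟨?_, h2.symm⟩
  rcases walter hn S h.isMulCommutative with k | k | k
  · have h3 := hf.formula hM h
    rw [k.val hM h ht t1 hC, ← h2] at h3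
    exact Nat.eq_of_mul_eq_mul_left (ee_pos (S : Subgroup G)) (by linarith)
  · rw [ll_four hM h h1 k]
    omega
  · exact absurd hC (not_npc_JR k t2)

/-- Every element of `P` is centralized by `N(P)` or lies in a regular orbit of the
abelian group `N(P)/C(P)`. -/
structure SF (P : Subgroup G) : Prop extends AbSyl 2 P where
  semi : ∀ x ∈ P, NN P ≤ Cx x ∨ NN P ⊓ Cx x ≤ CC P
  abel : ⁅NN P, NN P⁆ ≤ CC P

theorem SF.sub (h : SF P) (hH : P ≤ H) : SF (P.subgroupOf H) := by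
  refine ⟨ab_sub h.toAbSyl hH, fun x hx => ?_, ?_⟩
  · rw [NN_sub hH, CC_sub hH]
    exact (h.semi x hx).imp (fun k n hn => mem_Cx.2 (Subtype.ext (mem_Cx.1 (k hn))))
      fun k n hn => k (mem_inf.2 ⟨hn.1, mem_Cx.2 (congrArg Subtype.val (mem_Cx.1 hn.2))⟩)
  · rw [NN_sub hH, CC_sub hH]
    exact Subgroup.commutator_le.2 fun a ha b hb => h.abel (commutator_mem_commutator ha hb)

theorem SF.map {Q : Type*} [Group Q] {f : G →* Q} (h : SF P) (hf : Function.Surjective f)
    (H : ∀ n ∈ NN P, ∀ x ∈ P, f n * f x = f x * f n → n * x = x * n) : SF (P.map f) := by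
  have k : (CC P).map f ≤ CC (P.map f) := by
    rintro _ ⟨c, hc, rfl⟩ _ ⟨x, hx, rfl⟩
    rw [← map_mul, hc x hx, map_mul]
  refine ⟨ab_map h.toAbSyl hf, ?_, ?_⟩
  · rintro _ ⟨x, hx, rfl⟩
    rw [NN_map h.toAbSyl hf]
    refine (h.semi x hx).imp ?_ ?_
    · rintro k' _ ⟨n, hn, rfl⟩
      rw [mem_Cx, ← map_mul, mem_Cx.1 (k' hn), map_mul]
    · rintro k' _ ⟨⟨n, hn, rfl⟩, e⟩
      exact k ⟨n, k' (mem_inf.2 ⟨hn, mem_Cx.2 (H n hn x hx (mem_Cx.1 e))⟩), rfl⟩
  · rw [NN_map h.toAbSyl hf, ← map_commutator]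
    exact (map_mono h.abel).trans k

theorem comm_of_central {Q : Type*} [Group Q] {f : G →* Q} (h : AbSyl 2 P) {z : G}
    (hz : z ∈ center G) (z2 : z * z = 1) (hk : ∀ g, f g = 1 → g = 1 ∨ g = z) :
    ∀ n ∈ NN P, ∀ x ∈ P, f n * f x = f x * f n → n * x = x * n := fun n hn x hx e => by
  rcases hk (n * x * n⁻¹ * x⁻¹) (by simp [e]) with k | k
  · rwa [mul_inv_eq_one, mul_inv_eq_iff_eq_mul] at k
  have k1 : n * n ∈ Cx x := by
    rw [mem_Cx', show n * n * x * (n * n)⁻¹ = n * (n * x * n⁻¹ * x⁻¹ * x) * n⁻¹ by group, k,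
      ← mul_assoc, mem_center_iff.1 hz, show z * n * x * n⁻¹ = z * (n * x * n⁻¹ * x⁻¹) * x by group,
      k, z2, one_mul]
  have k2 : n ^ ee P ∈ Cx x :=
    CC_le_Cx hx (((CC P).subgroupOf (NN P)).pow_index_mem ⟨n, hn⟩)
  obtain ⟨c, hc⟩ := Nat.odd_iff.2 (Nat.two_dvd_ne_zero.1 (not_dvd_ee h))
  rw [hc, pow_succ, pow_mul, sq, mul_mem_cancel_left (pow_mem k1 c)] at k2
  exact mem_Cx.1 k2

theorem central_of_fixed (h : AbSyl 2 P) (hO : pPrimeCore 2 G = ⊥) {z : G} (hz : z ∈ P)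
    (z2 : orderOf z = 2) (hN : NN P ≤ Cx z) : z ∈ center G := by
  obtain ⟨S, rfl⟩ := exists_sylow h
  refine zstar_center (Inv.isolated_of_sylow S z2 fun g hg => ?_) hO
  obtain ⟨n, hn, e⟩ := exists_conj h hz hg (isConj_iff.2 ⟨g, rfl⟩)
  rw [← e, mem_Cx'.1 (hN hn)]

theorem normal_of_solvable (h : AbSyl 2 P) (hO : pPrimeCore 2 G = ⊥) (hs : Group.IsSolvable G) :
    P.Normal := by
  obtain ⟨S, rfl⟩ := exists_sylow h
  have h1 := Core.pCore_le_sylow S
  have h2 : (S : Subgroup G) ≤ pCore 2 G := fun a ha => Core.centralizer_pCore_le 2 hO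
    fun b hb => h.comm ha b (h1 hb)
  rw [le_antisymm h2 h1]
  infer_instance

theorem odd_index (h : AbSyl 2 P) (hL : P ≤ L) : Odd L.index :=
  Nat.odd_iff.2 (Nat.two_dvd_ne_zero.1 fun k => h.ind (k.trans (index_dvd_of_le hL)))

theorem pgroup_of_npc (hO : pPrimeCore 2 G = ⊥) [L.Normal] (h : HasNormalPComplement 2 L) :
    IsPGroup 2 L := by
  have := index_pPrimeCore_of_complement Nat.prime_two h
  rw [Core.pPrimeCore_eq_subgroupOf, hO, bot_subgroupOf, index_bot] at this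
  exact .of_card this

theorem Free.not_npc (hf : Free P) (h : AbSyl 2 P) (hO : pPrimeCore 2 G = ⊥)
    (hs : ¬ Group.IsSolvable G) [L.Normal] (h0 : L ≠ ⊥) : ¬ HasNormalPComplement 2 L := fun k => by
  have h1 := pgroup_of_npc hO k
  obtain ⟨S, rfl⟩ := exists_sylow h
  have h2 : L ≤ S := h1.le_sylow_of_normal S
  obtain ⟨t, ht, t2⟩ := LocalEven.exists_mem_orderOf_eq_of_ne_bot h1 h0
  have hC := npc_of_le h (le_Cx h (h2 ht)) (hf t (h2 ht) (LocalEven.ne_one_of_orderOf_eq t2))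
  exact hs (Ab2.solv_of_index (N := CC L) (solv_of_npc
    (Transfer.hasNormalPComplement_of_le (CC_le_Cx ht) hC))
    (odd_index h (h.comm.trans (centralizer_le h2))))

theorem card_quot_lt {K : Subgroup G} [K.Normal] (h : K ≠ ⊥) : Nat.card (G ⧸ K) < Nat.card G := by
  rw [← K.card_mul_index]
  exact lt_mul_left Nat.card_pos ((one_lt_card_iff_ne_bot K).2 h)

theorem card_lt (h : H ≠ ⊤) : Nat.card H < Nat.card G :=
  (card_le_card_group H).lt_of_ne fun e => h (eq_top_of_card_eq H e)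

theorem sf_aux (hM : IsPModular 2 M) (n : ℕ) : ∀ (G : Type u) [Group G] [Finite G]
    (P : Subgroup G), Nat.card G = n → SF P → ll 2 M G = ee P ∧
      (¬ Group.IsSolvable G → (CC (NN P)).relIndex P = ee P + 1) := by
  induction n using Nat.strong_induction_on with | _ n ih => ?_
  intro G _ _ P hn h
  have h' := h.toAbSyl
  have quot : ∀ (K : Subgroup G) [K.Normal], K ≠ ⊥ → Group.IsSolvable K →
      (∀ n ∈ NN P, ∀ x ∈ P, (n : G ⧸ K) * x = x * n → n * x = x * n) →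
      ll 2 M (G ⧸ K) = ll 2 M G → ll 2 M G = ee P ∧
      (¬ Group.IsSolvable G → (CC (NN P)).relIndex P = ee P + 1) := fun K _ h0 hs H hl => by
    have hf := QuotientGroup.mk'_surjective K
    obtain ⟨k1, k2⟩ := ih _ (hn ▸ card_quot_lt h0) _ _ rfl (h.map hf H)
    rw [ee_map h' hf H] at k1 k2
    rw [zz_map h' hf H] at k2
    exact ⟨hl ▸ k1, fun k => k2 fun k' =>
      k (Group.isSolvable_of_ker_le_range K.subtype (QuotientGroup.mk' K) (by simp))⟩
  by_cases hO : pPrimeCore 2 G = ⊥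
  swap
  · have hk : ¬ 2 ∣ Nat.card (QuotientGroup.mk' (pPrimeCore 2 G)).ker := by
      rw [QuotientGroup.ker_mk']
      exact Core.not_dvd_card_pPrimeCore Nat.prime_two
    exact quot _ hO (S0205.result (Nat.odd_iff.2 (Nat.two_dvd_ne_zero.1
      (Core.not_dvd_card_pPrimeCore Nat.prime_two)))) (comm_of_odd h' hk)
      (ll_odd hM (QuotientGroup.mk'_surjective _) hk)
  by_cases hZ : P ⊓ CC (NN P) = ⊥
  swap
  · obtain ⟨z, hz, z2⟩ := LocalEven.exists_mem_orderOf_eq_of_ne_bot (h.pg.to_le inf_le_left) hZ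
    have hc := central_of_fixed h' hO hz.1 z2 fun n hn => mem_Cx.2 (hz.2 n hn)
    have hc' : zpowers z ≤ center G := zpowers_le.2 hc
    have : (zpowers z).Normal := ⟨fun a ha g => by
      rwa [mem_center_iff.1 (hc' ha) g, mul_inv_cancel_right]⟩
    refine quot (zpowers z) (zpowers_ne_bot.2 (LocalEven.ne_one_of_orderOf_eq z2)) inferInstance
      (comm_of_central (f := QuotientGroup.mk' _) h' hc (Inv.mul_self_of_two z2) fun g hg =>
        mem_zp z2 ((QuotientGroup.eq_one_iff g).1 hg))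
      (ll_central hM (QuotientGroup.mk'_surjective _) ?_ ?_) <;> rw [QuotientGroup.ker_mk']
    · exact .of_card (n := 1) ((Nat.card_zpowers z).trans z2)
    · exact hc'
  have hf : Free P := fun x hx x1 => (h.semi x hx).resolve_left fun k =>
    x1 (mem_bot.1 (hZ ▸ mem_inf.2 ⟨hx, fun n hn => mem_Cx.1 (k hn)⟩))
  rw [← inf_relIndex_right, inf_comm, hZ, relIndex_bot_left]
  by_cases h0 : P = ⊥
  · have k := npc_of_le h' le_top (by simp [h0])
    rw [Transfer.hasNormalPComplement_top_iff] at k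
    exact ⟨by simp [ll_of_npc hM k, h0, ee], fun k' => absurd (solv_of_npc k) k'⟩
  by_cases hs : Group.IsSolvable G
  · have := normal_of_solvable h' hO hs
    exact ⟨hf.ll_eq hM h' h0 (ee_le_ll hM h' h.abel), fun k => absurd hs k⟩
  by_cases hG : IsSimpleGroup G
  · exact (hf.simple hM h' fun k => hs (isSolvable_of_comm k.is_comm.comm)).imp_right fun k _ => k
  obtain ⟨L, _, h1, h2⟩ : ∃ L : Subgroup G, L.Normal ∧ L ≠ ⊥ ∧ L ≠ ⊤ := by
    by_contra! k
    have : Nontrivial G := by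
      obtain ⟨x, -, x1⟩ := (bot_or_exists_ne_one P).resolve_left h0
      exact ⟨⟨x, 1, x1⟩⟩
    exact hG ⟨fun L hL => or_iff_not_imp_left.2 (k L hL)⟩
  obtain ⟨m, m1, m2, m3⟩ := exists_mem_of_not_npc h' (hf.not_npc h' hO hs h1)
  have hL := hf.le_of_mem h' m1 m2 m3
  obtain ⟨k1, k2⟩ := ih _ (hn ▸ card_lt h2) _ _ rfl (h.sub hL)
  replace k2 := k2 fun k => hs (Ab2.solv_of_index k (odd_index h' hL))
  have k3 : P.subgroupOf L ⊓ CC (NN (P.subgroupOf L)) = ⊥ := eq_bot_iff.2 fun x hx => by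
    by_contra x1
    exact m3 (hf x hx.1 (fun e => x1 (Subtype.ext e)) (mem_inf.2 ⟨m1, mem_Cx.2 (congrArg Subtype.val
      (hx.2 ⟨m, m2⟩ ((mem_normalizer_subgroupOf_iff hL).2 m1)))⟩))
  have k4 := (hf.sub hL).formula hM (ab_sub h' hL)
  rw [← inf_relIndex_right, inf_comm, k3, relIndex_bot_left] at k2
  rw [Nat.card_congr (subgroupOfEquivOfLe hL).toEquiv, ee_sub hL] at k2 k4
  rw [ee_sub hL] at k1
  obtain ⟨x, hx, x1⟩ := (bot_or_exists_ne_one P).resolve_left h0
  have k5 : ee P ≤ eH P L := by have := (hf.card h' hx x1).1; omega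
  have k6 := le_antisymm (Nat.le_of_dvd (ee_pos P) (eH_dvd P L)) k5
  have k7 := hf.formula hM h'
  rw [kk_dade hM h' hL (top_le_iff.1 ((frattini h' hL).ge.trans
    (sup_le le_sup_left (le_sup_of_eH k5))))] at k7
  rw [k6] at k1 k2 k4
  exact ⟨Nat.eq_of_mul_eq_mul_left (ee_pos P) (by rw [k1] at k4; omega), fun _ => k2⟩

theorem SF.main (h : SF P) (hM : IsPModular 2 M) : ll 2 M G = ee P ∧
    (¬ Group.IsSolvable G → (CC (NN P)).relIndex P = ee P + 1) := sf_aux hM _ G P rfl h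

theorem abel_of_comm (h : IsMulCommutative (NN P ⧸ (CC P).subgroupOf (NN P))) :
    ⁅NN P, NN P⁆ ≤ CC P := Subgroup.commutator_le.2 fun a ha b hb =>
  Subgroup.Normal.quotient_commutative_iff_commutator_le.1 h
    (commutator_mem_commutator (mem_top (⟨a, ha⟩ : NN P)) (mem_top ⟨b, hb⟩))

theorem sf_of_prime (h : AbSyl 2 P) (he : (ee P).Prime) : SF P := by
  refine ⟨h, fun x hx => ?_, abel_of_comm ?_⟩
  · rcases (Nat.dvd_prime he).1 (eH_dvd P (Cx x)) with k | k
    · exact .inr (relIndex_eq_one.1 k)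
    · exact .inl ((le_sup_of_eH k.ge).trans (sup_le le_rfl (CC_le_Cx hx)))
  · have := Fact.mk he
    have := isCyclic_of_prime_card (α := NN P ⧸ (CC P).subgroupOf (NN P)) (p := ee P) rfl
    infer_instance

theorem SF.formula (h : SF P) (hM : IsPModular 2 M) :
    ee P * kk M G + Nat.card (P ⊓ CC (NN P) : Subgroup G) =
      ee P * ee P * Nat.card (P ⊓ CC (NN P) : Subgroup G) + Nat.card P := by
  have := Fintype.ofFinite P
  have k : Nat.card (P ⊓ CC (NN P) : Subgroup G) =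
      (Finset.univ.filter fun x : P => (x : G) ∈ CC (NN P)).card := by
    rw [inf_comm, ← Transfer.card_subgroupOf_eq]
    exact (card_filter_eq_card (s := ((CC (NN P)).subgroupOf P : Set P)) fun _ => Iff.rfl).symm
  rw [ee_mul_kk hM h.toAbSyl, k, Nat.card_eq_fintype_card, ← Finset.card_univ,
    ← Finset.sum_filter_add_sum_filter_not _ fun x : P => (x : G) ∈ CC (NN P),
    ← Finset.card_filter_add_card_filter_not (s := Finset.univ) fun x : P => (x : G) ∈ CC (NN P),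
    Finset.sum_congr rfl (g := fun _ => ee P * ee P) fun x hx => ?_,
    Finset.sum_congr (s₁ := Finset.univ.filter fun x : P => ¬ (x : G) ∈ CC (NN P)) rfl
      (g := fun _ => 1) fun x hx => term_eq_one hM h.toAbSyl x.2 ((h.semi x x.2).resolve_left
        fun k => (Finset.mem_filter.1 hx).2 fun n hn => mem_Cx.1 (k hn))]
  · simp only [Finset.sum_const, smul_eq_mul]
    ring
  · have k1 := le_Cx h.toAbSyl x.2
    rw [((h.sub k1).main hM).1, ee_sub k1,
      eH_of_le fun n hn => mem_Cx.2 ((Finset.mem_filter.1 hx).2 n hn)]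

theorem SF.kk_eq (h : SF P) (hM : IsPModular 2 M) (hs : ¬ Group.IsSolvable G) :
    kk M G = Nat.card P := by
  have h1 := h.formula hM
  have h2 := Core.card_inf_mul_relIndex (CC (NN P)) P
  rw [(h.main hM).2 hs, inf_comm] at h2
  rw [← h2] at h1 ⊢
  exact Nat.eq_of_mul_eq_mul_left (ee_pos P) (by linarith)

end Cfsg.Agent.Blk2
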