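import Mathlib
import Cfsg.Agent.Blk2.Frob
import Cfsg.Agent.Block.Glue

/-! Multiplying the characters of a block by functions of the `p`-part. -/

set_option autoImplicit false

namespace Cfsg.Agent.Blk2

open Cfsg Cfsg.Agent.Char Cfsg.Agent.Block Subgroup
open scoped _root_.Classical ComplexConjugate Matrix

section arith

variable {ι : Type*} [Fintype ι] {C C' : Matrix ι ι ℤ} {n σ : ι → ℤ}

theorem dot_bil (hs : Cᵀ = C) (C' : Matrix ι ι ℤ) (a b : ι → ℤ) :
    (C *ᵥ a) ⬝ᵥ (C' *ᵥ b) = a ⬝ᵥ ((C * C') *ᵥ b) := by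
  rw [← Matrix.mulVec_mulVec, Matrix.dotProduct_mulVec a, ← Matrix.mulVec_transpose, hs]

theorem arith_aux (hs : Cᵀ = C) (h2 : C * C = (4 : ℤ) • C) (h4 : C *ᵥ n = (4 : ℤ) • n)
    (hσ : ∀ i, (n i ^ 2 = 1 ∧ σ i = 0) ∨ (n i = 2 * σ i ∧ σ i ^ 2 = 1)) :
    C *ᵥ σ = (4 : ℤ) • σ := by
  have h1 : ∀ i, ∃ y, (C *ᵥ σ) i = 2 * y := fun i => by
    have k1 : (2 : ℤ) ∣ ∑ k, (C i k * σ k - C i k * C k i - C i k * n k) :=
      Finset.dvd_sum fun k _ => by
        rw [show C k i = C i k from congrFun (congrFun hs i) k, ← even_iff_two_dvd]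
        rcases hσ k with ⟨e, e'⟩ | ⟨e, e'⟩
        · rcases sq_eq_one_iff.1 e with e | e <;> simp [e, e', parity_simps]
        · rcases sq_eq_one_iff.1 e' with e' | e' <;> simp [e, e', parity_simps]
    rw [Finset.sum_sub_distrib, Finset.sum_sub_distrib] at k1
    obtain ⟨c, hc⟩ := k1
    have k2 : ∑ k, C i k * C k i = 4 * C i i := congrFun (congrFun h2 i) i
    have k3 : ∑ k, C i k * n k = 4 * n i := congrFun h4 i
    exact ⟨c + 2 * C i i + 2 * n i, show ∑ k, C i k * σ k = _ by linear_combination hc + k2 + k3⟩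
  choose y hy using h1
  have hy' : C *ᵥ σ = (2 : ℤ) • y := funext hy
  have k1 := dot_bil hs C σ σ
  have k2 := dot_bil hs 1 σ n
  have k3 : σ ⬝ᵥ n = 2 * σ ⬝ᵥ σ := by
    rw [dotProduct, dotProduct, Finset.mul_sum]
    exact Finset.sum_congr rfl fun i _ => by rcases hσ i with ⟨-, e⟩ | ⟨e, -⟩ <;> rw [e] <;> ring
  rw [h2, Matrix.smul_mulVec, hy'] at k1
  rw [mul_one, h4, Matrix.one_mulVec, hy'] at k2
  simp only [smul_dotProduct, dotProduct_smul, smul_eq_mul] at k1 k2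
  have k4 : ∑ i, (2 * (2 * (y i - σ i) ^ 2 - (y i - σ i) * n i) - ((y i - σ i) ^ 2 - σ i ^ 2) -
      (y i - 2 * σ i) ^ 2) = - ∑ i, (y i - 2 * σ i) ^ 2 := by
    have : ∀ i, (2 * (2 * (y i - σ i) ^ 2 - (y i - σ i) * n i) - ((y i - σ i) ^ 2 - σ i ^ 2) -
      (y i - 2 * σ i) ^ 2) = 3 * (y i * y i) - 6 * (σ i * y i) + 4 * (σ i * σ i) - 2 * (y i * n i)
        + 2 * (σ i * n i) - (y i - 2 * σ i) ^ 2 := fun i => by ring
    simp only [this, Finset.sum_sub_distrib, Finset.sum_add_distrib, ← Finset.mul_sum]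
    simp only [dotProduct] at k1 k2 k3
    linarith
  have k5 : ∑ i, (y i - 2 * σ i) ^ 2 ≤ 0 := by
    rw [← neg_nonneg, ← k4]
    refine Finset.sum_nonneg fun i _ => ?_
    rcases hσ i with ⟨e, e'⟩ | ⟨e, e'⟩
    · rcases sq_eq_one_iff.1 e with e | e <;> rw [e, e'] <;>
        rcases lt_trichotomy (y i) 0 with h | h | h <;> nlinarith
    · rcases sq_eq_one_iff.1 e' with e' | e' <;> rw [e, e'] <;>
        rcases lt_trichotomy (y i) 0 with h | h | h <;> nlinarith
  have k6 := (Finset.sum_eq_zero_iff_of_nonneg fun i _ => sq_nonneg (y i - 2 * σ i)).1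
    (k5.antisymm (Finset.sum_nonneg fun i _ => sq_nonneg _))
  funext i
  have := pow_eq_zero_iff (two_ne_zero) |>.1 (k6 i (Finset.mem_univ _))
  rw [hy, Pi.smul_apply, smul_eq_mul]
  linarith

theorem arith_sixteen (hs : Cᵀ = C) (hs' : C'ᵀ = C') (h2 : C * C = (4 : ℤ) • C)
    (h2' : C' * C' = (4 : ℤ) • C') (h3 : ∀ i j, (C * C') i j = n i * n j)
    (h1 : ∀ i, 1 ≤ n i ^ 2) (h16 : ∑ i, n i ^ 2 = 16) (h9 : 9 ≤ Fintype.card ι) :
    Fintype.card ι = 16 := by
  have h3' : C * C' = Matrix.vecMulVec n n := Matrix.ext h3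
  have hn : n ⬝ᵥ n = 16 := by simpa only [sq, dotProduct] using h16
  have k0 : ∀ a, (C * C') *ᵥ a = (n ⬝ᵥ a) • n := fun a => by
    rw [h3', Matrix.vecMulVec_mulVec, op_smul_eq_smul]
  have k1 : C *ᵥ n = (4 : ℤ) • n := by
    have := congrArg (C *ᵥ ·) (k0 n)
    simp only [Matrix.mulVec_mulVec, ← mul_assoc, h2, smul_mul_assoc, Matrix.smul_mulVec, hn,
      Matrix.mulVec_smul] at this
    rw [k0, hn] at this
    exact smul_right_injective _ (show (16 : ℤ) ≠ 0 by norm_num) (this.symm.trans (smul_comm _ _ _))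
  have k0' : C' * C = C * C' := by
    rw [← hs, ← hs', ← Matrix.transpose_mul, hs, hs', h3', Matrix.transpose_vecMulVec]
  have k1' : C' *ᵥ n = (4 : ℤ) • n := by
    have := congrArg (C' *ᵥ ·) (k0 n)
    simp only [← k0', Matrix.mulVec_mulVec, ← mul_assoc, h2', smul_mul_assoc, Matrix.smul_mulVec,
      hn, Matrix.mulVec_smul] at this
    rw [k0', k0, hn] at this
    exact smul_right_injective _ (show (16 : ℤ) ≠ 0 by norm_num) (this.symm.trans (smul_comm _ _ _))
  have k2 : ∀ i, n i ^ 2 ≤ 8 := fun i => by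
    have := Finset.single_le_sum (f := fun i => n i ^ 2 - 1) (fun j _ => sub_nonneg.2 (h1 j))
      (Finset.mem_univ i)
    simp only [Finset.sum_sub_distrib, h16, Finset.sum_const, Finset.card_univ] at this
    simp at this
    omega
  have hσ : ∀ i, (n i ^ 2 = 1 ∧ n i / 2 * (1 - n i % 2) = 0) ∨
      (n i = 2 * (n i / 2 * (1 - n i % 2)) ∧ (n i / 2 * (1 - n i % 2)) ^ 2 = 1) := fun i => by
    have a1 := h1 i
    have a2 := k2 i
    have a3 : -3 < n i ∧ n i < 3 := by constructor <;> nlinarith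
    obtain ⟨a3, a4⟩ := a3
    interval_cases n i <;> simp at a1 ⊢
  set σ : ι → ℤ := fun i => n i / 2 * (1 - n i % 2)
  have k3 := dot_bil hs C' σ σ
  rw [arith_aux hs h2 k1 hσ, arith_aux hs' h2' k1' hσ, k0] at k3
  have k4 : ∑ i, n i ^ 2 = ∑ i, (1 + 3 * (σ i * σ i)) := Finset.sum_congr rfl fun i _ => by
    rcases hσ i with ⟨e, e'⟩ | ⟨e, e'⟩
    · rw [e, show σ i = 0 from e']
      ring
    · linear_combination (n i + 2 * σ i) * e + e'
  have k5 : n ⬝ᵥ σ = 2 * σ ⬝ᵥ σ := by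
    rw [dotProduct, dotProduct, Finset.mul_sum]
    exact Finset.sum_congr rfl fun i _ => by
      rcases hσ i with ⟨-, e⟩ | ⟨e, -⟩
      · rw [show σ i = 0 from e]
        ring
      · linear_combination σ i * e
  rw [h16, Finset.sum_add_distrib, ← Finset.mul_sum, ← dotProduct] at k4
  simp only [smul_dotProduct, dotProduct_smul, smul_eq_mul, dotProduct_comm σ n, k5] at k3
  simp at k4
  have k6 : σ ⬝ᵥ σ * (σ ⬝ᵥ σ - 4) = 0 := by linarith
  rcases mul_eq_zero.1 k6 with k | k <;> omega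

end arith

variable {G : Type*} [Group G] [Fintype G] {p : ℕ} {M : Ideal AlgInt} {P : Subgroup G}
  {B : Set (IrrCharacter G)} {γ γ' : G → ℂ}

/-- A generalized character depending only on the `p`-part. -/
structure SecFn (p : ℕ) (γ : G → ℂ) : Prop where
  gen : IsGeneralizedCharacter G γ
  pp : ∀ g, γ g = γ (pp p g)

theorem SecFn.mul (h : SecFn p γ) (h' : SecFn p γ') : SecFn p (γ * γ') :=
  ⟨isGenChar_mul h.gen h'.gen, fun g => by rw [Pi.mul_apply, h.pp, h'.pp, Pi.mul_apply]⟩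

theorem secFn_spr (h : AbSyl p P) {φ : P → ℂ} (hφ : NInv φ) (hv : IsGeneralizedCharacter P φ) :
    SecFn p (spr h φ) := ⟨isGenChar_spr hφ hv, spr_pp hφ⟩

theorem blockPart_mul (hM : IsPModular p M) (hB : IsV M (blockIdem B)) (hc : IsClassFunction G γ)
    (h : ∀ g, γ g = γ (pp p g)) (f : G → ℂ) : blockPart B (γ * f) = γ * blockPart B f := by
  funext u
  have k := blockPart_eq_zero_of_section hM hB (ϑ := γ * f - γ u • f) (x := pp p u)
    (fun v z hz e => by
      rw [Pi.sub_apply, Pi.mul_apply, h v, (pp_eq_iff hM.1).2 hz, ← classFun_isConj hc e, ← h,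
        Pi.smul_apply, smul_eq_mul, sub_self]) (isPPart_pp hM.1 u) (IsConj.refl _)
  rwa [blockPart_sub', blockPart_smul', Pi.sub_apply, sub_eq_zero] at k

/-- The matrix of multiplication by `γ` on a block. -/
noncomputable def mat (B : Set (IrrCharacter G)) (γ : G → ℂ) : Matrix B B ℤ :=
  fun χ ψ => ⌊(classInner (γ * χ.1.1) ψ.1.1).re⌋

theorem mat_coe (h : IsGeneralizedCharacter G γ) (χ ψ : B) :
    (mat B γ χ ψ : ℂ) = classInner (γ * χ.1.1) ψ.1.1 := by
  obtain ⟨n, hn⟩ := classInner_isGenChar_int (isGenChar_mul h (irr_isGenChar χ.1))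
    (irr_isGenChar ψ.1)
  simp [mat, hn]

theorem mul_eq_sum (hM : IsPModular p M) (hB : IsV M (blockIdem B)) (h : SecFn p γ) (χ : B) :
    γ * χ.1.1 = ∑ ψ : B, (mat B γ χ ψ : ℂ) • ψ.1.1 := by
  conv_lhs => rw [← blockPart_irr_of_mem χ.2, ← blockPart_mul hM hB (isGenChar_classFun h.gen) h.pp,
    blockPart_eq_sum_smul]
  rw [Finset.sum_subtype (p := (· ∈ B)) _ (by simp)]
  exact Finset.sum_congr rfl fun ψ _ => by rw [mat_coe h.gen]

theorem mat_mul (hM : IsPModular p M) (hB : IsV M (blockIdem B)) (h : SecFn p γ)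
    (h' : SecFn p γ') : mat B γ * mat B γ' = mat B (γ * γ') := by
  ext χ ψ
  refine Int.cast_injective (α := ℂ) ?_
  rw [mat_coe (h.mul h').gen, mul_comm γ, mul_assoc, mul_eq_sum hM hB h, Finset.mul_sum,
    classInner_sum_left, Matrix.mul_apply, Int.cast_sum]
  exact Finset.sum_congr rfl fun φ _ => by
    rw [mul_smul_comm, classInner_smul_left, Int.cast_mul, mat_coe h'.gen]

theorem mat_symm (h : IsGeneralizedCharacter G γ) (hr : ∀ g, conj (γ g) = γ g) :
    (mat B γ)ᵀ = mat B γ := by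
  ext χ ψ
  refine Int.cast_injective (α := ℂ) ?_
  rw [Matrix.transpose_apply, ← classInner_comm_of_intCast (mat_coe h ψ χ).symm, mat_coe h,
    mul_comm γ χ.1.1, classInner_mul_left, funext hr, mul_comm]

theorem mat_smul (h : IsGeneralizedCharacter G γ) (c : ℤ) :
    mat B ((c : ℂ) • γ) = c • mat B γ := by
  ext χ ψ
  refine Int.cast_injective (α := ℂ) ?_
  rw [mat_coe (isGenChar_intCast_smul c h), smul_mul_assoc, classInner_smul_left,
    Matrix.smul_apply, smul_eq_mul, Int.cast_mul, mat_coe h]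

/-- Four times the indicator of the elements whose `2`-part is not conjugate into `V`. -/
noncomputable def gam (h : AbSyl 2 P) (V : Subgroup G) : G → ℂ :=
  spr h fun x => 4 - ((if x ∈ V.subgroupOf P then 4 else 0 : ℤ) : ℂ)

theorem gam_apply (h : AbSyl 2 P) (V : Subgroup G) (g : G) :
    gam h V g = if (h.rep g : G) ∈ V then 0 else 4 := by
  by_cases k : (h.rep g : G) ∈ V <;> simp [gam, spr, mem_subgroupOf, k]

theorem secFn_gam (h : AbSyl 2 P) {V : Subgroup G} (hN : NN P ≤ NN V) (h4 : V.relIndex P = 4) :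
    SecFn 2 (gam h V) := by
  have := h.isMulCommutative
  refine secFn_spr h (fun n x => ?_) (isGenChar_sub (isGenChar_intCast 4)
    (isGenChar_indicator (V.subgroupOf P) (n := 4) (by rw [← relIndex, h4]; rfl)))
  simp only [mem_subgroupOf, coe_cP, ← mem_normalizer_iff.1 (hN n.2) x]

theorem mat_gam (h : AbSyl 2 P) (hM : IsPModular 2 M) (hB : IsV M (blockIdem B)) {V : Subgroup G}
    (hN : NN P ≤ NN V) (h4 : V.relIndex P = 4) : (mat B (gam h V))ᵀ = mat B (gam h V) ∧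
    mat B (gam h V) * mat B (gam h V) = (4 : ℤ) • mat B (gam h V) := by
  have k := secFn_gam h hN h4
  refine ⟨mat_symm k.gen fun g => ?_, ?_⟩
  · rw [gam_apply]
    split_ifs <;> simp [map_ofNat]
  · rw [mat_mul hM hB k k, ← mat_smul k.gen]
    congr 1
    funext g
    rw [Pi.mul_apply, Pi.smul_apply, gam_apply]
    split_ifs <;> simp

theorem mat_rank_one (hM : IsPModular 2 M) (hγ : SecFn 2 γ) (hr : ∀ g, conj (γ g) = γ g) {t : G}
    (hC : HasNormalPComplement 2 (Cx t)) (h0 : ∀ g, γ g ≠ 0 → IsConj t (pp 2 g))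
    {n : IrrCharacter G → ℤ} (hn : ∀ χ, χ.1 t = n χ) {q : ℤ} (hq : q ≠ 0) (ht : γ t = q)
    (hs : ∑ χ : principalBlock M G, n χ ^ 2 = q) (χ ψ : principalBlock M G) :
    mat _ γ χ ψ = n χ * n ψ := by
  let o : principalBlock M G := ⟨oneIrr G, oneIrr_mem_principalBlock hM⟩
  have k1 : ∀ χ ψ : principalBlock M G, mat _ γ χ ψ = n χ * mat _ γ o ψ := fun χ ψ => by
    refine Int.cast_injective (α := ℂ) ?_
    rw [Int.cast_mul, mat_coe hγ.gen, mat_coe hγ.gen, ← classInner_smul_left]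
    congr 1
    funext g
    by_cases k : γ g = 0
    · simp [k]
    · rw [Pi.mul_apply, principal_const_on_section hM hC χ.2 (isPPart_pp hM.1 g) (h0 g k), hn]
      simp [o, mul_comm]
  have k2 : ∀ ψ, mat _ γ o ψ = n ψ * mat _ γ o o := fun ψ => by
    rw [← k1, ← Matrix.transpose_apply (mat _ γ), mat_symm hγ.gen hr]
  have k3 := congrFun (mul_eq_sum hM (isV_blockIdem hM isPBlock_principalBlock) hγ o) t
  have k5 : ∀ ψ : principalBlock M G, ((mat _ γ o ψ : ℂ) • ψ.1.1) t =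
      ((n ψ ^ 2 * mat _ γ o o : ℤ) : ℂ) := fun ψ => by
    rw [k2, Pi.smul_apply, hn, smul_eq_mul]
    push_cast
    ring
  simp only [Finset.sum_apply, k5, ← Int.cast_sum, ← Finset.sum_mul, hs, Pi.mul_apply, ht] at k3
  have k4 : q = q * mat _ γ o o := by simpa [o, ← Int.cast_mul] using k3
  rw [k1, k2, (left_eq_mul₀ hq).1 k4, mul_one]

theorem kk_sixteen (hM : IsPModular 2 M) (h : AbSyl 2 P) (h16 : Nat.card P = 16)
    {V W : Subgroup G} (hV : NN P ≤ NN V) (hW : NN P ≤ NN W) (h1 : V.relIndex P = 4)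
    (h2 : W.relIndex P = 4) {t : G} (ht : t ∈ P) (t2 : t * t = 1) (tV : t ∉ V) (tW : t ∉ W)
    (hC : HasNormalPComplement 2 (Cx t)) (hc : ∀ x ∈ P, x ∉ V → x ∉ W → IsConj t x)
    (h9 : 9 ≤ kk M G) : kk M G = 16 := by
  obtain ⟨n, k1, k2, k3⟩ := exists_vals hM h ht t2 hC
  have hB := isV_blockIdem hM (isPBlock_principalBlock (G := G))
  have a := secFn_gam h hV h1
  have b := secFn_gam h hW h2
  rw [Finset.sum_subtype (p := (· ∈ principalBlock M G)) _ (by simp), h16] at k3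
  rw [kk, Nat.card_eq_fintype_card] at h9 ⊢
  refine arith_sixteen (mat_gam h hM hB hV h1).1 (mat_gam h hM hB hW h2).1
    (mat_gam h hM hB hV h1).2 (mat_gam h hM hB hW h2).2 (n := fun χ => n χ) (fun χ ψ => ?_)
    (fun χ => k2 χ χ.2) k3 h9
  rw [mat_mul hM hB a b]
  refine mat_rank_one hM (a.mul b) (fun g => ?_) hC (fun g hg => ?_) k1 (by norm_num) ?_ k3 χ ψ
  · rw [Pi.mul_apply, gam_apply, gam_apply]
    split_ifs <;> simp [map_ofNat]
  · rw [Pi.mul_apply, gam_apply, gam_apply] at hg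
    exact (hc _ (h.rep g).2 (fun k => by simp [k] at hg) fun k => by simp [k] at hg).trans
      (h.isConj_rep g).symm
  · obtain ⟨m, hm, e⟩ := exists_conj h ht (h.rep t).2 (by
      simpa only [(pp_eq_iff h.prime).2 (isPPart_self h.prime (ab_order h ht))] using h.isConj_rep t)
    rw [Pi.mul_apply, gam_apply, gam_apply, ← e, if_neg (mt (mem_normalizer_iff.1 (hV hm) t).2 tV),
      if_neg (mt (mem_normalizer_iff.1 (hW hm) t).2 tW)]
    norm_num

end Cfsg.Agent.Blk2
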