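import Mathlib
import Cfsg.Agent.Blk2.Mat

/-! Sylow `2`-subgroups of order `16` with inertial index `9`, and small Sylow subgroups. -/

set_option autoImplicit false

namespace Cfsg.Agent.Blk2

open Cfsg Cfsg.Agent.Char Cfsg.Agent.Block Subgroup
open scoped _root_.Classical

variable {G : Type*} [Group G] [Fintype G] {p : ℕ} {M : Ideal AlgInt} {P A : Subgroup G}

theorem card_orbit (h : AbSyl p P) {x : G} (hx : x ∈ P) :
    (Finset.univ.filter fun y : P => IsConj x y).card * eH P (Cx x) = ee P := by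
  have k : (Finset.univ.filter fun y : P => IsConj x y).card = (Cx x).relIndex (NN P) := by
    rw [relIndex, ← card_range_eq_index _ (fun n => cP n ⟨x, hx⟩)]
    · exact card_filter_eq_card fun y =>
        ⟨fun e => h.exists_cP (x := ⟨x, hx⟩) e, fun ⟨n, e⟩ =>
          isConj_iff.2 ⟨n, congrArg Subtype.val e⟩⟩
    · intro a b
      rw [mem_subgroupOf, mem_Cx', Subtype.ext_iff, coe_cP, coe_cP, coe_mul, coe_inv]
      constructor <;> intro e
      · rw [show (a : G)⁻¹ * b * x * ((a : G)⁻¹ * b)⁻¹ = (a : G)⁻¹ * (b * x * (b : G)⁻¹) * a by group,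
          ← e]
        group
      · exact (congrArg (fun z => (a : G) * z * (a : G)⁻¹) e).symm.trans (by group)
  rw [k, mul_comm, ← inf_relIndex_left, eH, relIndex_mul_relIndex _ _ _
    (le_inf CC_le_NN (CC_le_Cx hx)) inf_le_left]

theorem card_fix {q k : ℕ} (hq : q.Prime) (he : ee P = q ^ k) (hA : A ≤ NN P) :
    Nat.card P ≡ Nat.card (P ⊓ CC A : Subgroup G) [MOD q] := by
  have := Fact.mk hq
  have h1 : IsPGroup q P.normalizerMonoidHom.range := .of_card (n := k) (by
    rw [← he, ← index_ker, normalizerMonoidHom_ker]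
    rfl)
  have h2 := (h1.to_le (map_le_range _ (A.subgroupOf (NN P)))).card_modEq_card_fixedPoints P
  rw [inf_comm, ← Transfer.card_subgroupOf_eq]
  convert h2 using 3
  ext x
  refine ⟨?_, fun k a ha => ?_⟩
  · rintro k ⟨_, n, hn, rfl⟩
    exact Subtype.ext (mul_inv_eq_iff_eq_mul.2 (k n hn))
  · exact mul_inv_eq_iff_eq_mul.1 (congrArg Subtype.val (k ⟨_, ⟨a, hA ha⟩, ha, rfl⟩))

theorem comm_fifteen {H : Type*} [Group H] [Finite H] (h : Nat.card H = 15) :
    IsMulCommutative H := by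
  have : Fact (Nat.Prime 3) := ⟨Nat.prime_three⟩
  have : Fact (Nat.Prime 5) := ⟨Nat.prime_five⟩
  let S : Sylow 3 H := default
  have h1 : Nat.card S = 3 := by
    rw [S.card_eq_multiplicity, h]
    decide +kernel
  have h2 : (S : Subgroup H).index = 5 := by
    have := (S : Subgroup H).card_mul_index
    rw [h1] at this
    omega
  have h3 : Nat.card (Sylow 3 H) = 1 := by
    have a := card_sylow_modEq_one 3 H
    rcases (Nat.dvd_prime Nat.prime_five).1 (h2 ▸ S.card_dvd_index) with k | k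
    · exact k
    · rw [k] at a
      exact absurd a (by decide)
  have := (Nat.card_eq_one_iff_unique.1 h3).1
  have := S.normal_of_subsingleton
  have h4 := IsCyclic.normalizer_le_centralizer (P := S) (by rw [h]; norm_num)
    (isCyclic_of_prime_card h1)
  have := isCyclic_of_prime_card (α := H ⧸ (S : Subgroup H)) (p := 5) h2
  refine (QuotientGroup.mk' (S : Subgroup H)).isMulCommutative_of_isCyclic_of_ker_le_center ?_
  rw [QuotientGroup.ker_mk']
  exact fun s hs => mem_center_iff.2 fun g => (h4 ((normalizer_eq_top (S : Subgroup H)).ge (mem_top g)) s hs).symm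

/-- `x` lies in a regular orbit. -/
abbrev Reg (P : Subgroup G) (x : G) : Prop := NN P ⊓ Cx x ≤ CC P

/-- The fixed points of the stabilizer of `x`. -/
abbrev Vx (P : Subgroup G) (x : G) : Subgroup G := P ⊓ CC (NN P ⊓ Cx x)

omit [Fintype G] in
theorem mem_Vx {x : G} (hx : x ∈ P) : x ∈ Vx P x := mem_inf.2 ⟨hx, fun _ h => mem_Cx.1 h.2⟩

omit [Fintype G] in
theorem le_of_mem_Vx {x y : G} (hy : y ∈ Vx P x) : NN P ⊓ Cx x ≤ NN P ⊓ Cx y :=
  fun n hn => mem_inf.2 ⟨hn.1, mem_Cx.2 (hy.2 n hn)⟩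

omit [Fintype G] in
theorem NN_le_Vx (hc : ⁅NN P, NN P⁆ ≤ CC P) {x : G} (hx : x ∈ P) : NN P ≤ NN (Vx P x) := by
  have k : ∀ n ∈ NN P, ∀ y ∈ Vx P x, n * y * n⁻¹ ∈ Vx P x := fun n hn y hy =>
    mem_inf.2 ⟨conj_mem hn hy.1, fun a ha => by
      have := hy.2 (a * (a⁻¹ * n⁻¹ * a⁻¹⁻¹ * n⁻¹⁻¹)) (mul_mem ha (le_inf CC_le_NN (CC_le_Cx hx)
        (hc (commutator_mem_commutator (inv_mem ha.1) (inv_mem hn)))))
      exact (by group : _ = n * (a * (a⁻¹ * n⁻¹ * a⁻¹⁻¹ * n⁻¹⁻¹) * y) * n⁻¹).trans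
        (by rw [this]; group)⟩
  exact fun n hn => mem_normalizer_iff.2 fun y =>
    ⟨k n hn y, fun e => by simpa [mul_assoc] using k _ (inv_mem hn) _ e⟩

theorem Reg.card (h : AbSyl p P) {x : G} (hx : x ∈ P) (k : Reg P x) :
    (Finset.univ.filter fun y : P => IsConj x y).card = ee P := by
  rw [← card_orbit h hx, show eH P (Cx x) = 1 from relIndex_eq_one.2 k, mul_one]

theorem Reg.conj (h : AbSyl p P) {x y : G} (hx : x ∈ P) (hy : y ∈ P) (k : Reg P x)
    (e : IsConj x y) : Reg P y := by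
  have := card_orbit h hy
  rw [← Finset.filter_congr fun (z : P) _ => (⟨e.symm.trans, e.trans⟩ : IsConj x z ↔ IsConj y z),
    k.card h hx, mul_eq_left₀ (ee_pos P).ne'] at this
  exact relIndex_eq_one.1 this

theorem Reg.isConj (h : AbSyl p P) (h2 : Nat.card P < 2 * ee P) {x y : G} (hx : x ∈ P)
    (hy : y ∈ P) (k : Reg P x) (k' : Reg P y) : IsConj x y := by
  by_contra e
  have := Finset.card_le_univ ((Finset.univ.filter fun z : P => IsConj x z).disjUnion
    (Finset.univ.filter fun z : P => IsConj y z)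
    (Finset.disjoint_filter.2 fun z _ a b => e (a.trans b.symm)))
  rw [Finset.card_disjUnion, k.card h hx, k'.card h hy, ← Nat.card_eq_fintype_card] at this
  omega

theorem card_reg (h : AbSyl p P) (h2 : Nat.card P < 2 * ee P) {x : G} (hx : x ∈ P) (k : Reg P x) :
    (Finset.univ.filter fun y : P => Reg P y).card = ee P := by
  rw [← k.card h hx]
  exact congrArg _ (Finset.filter_congr fun y _ =>
    ⟨Reg.isConj h h2 hx y.2 k, k.conj h hx y.2⟩)

theorem card_filter_mem {V : Subgroup G} (hV : V ≤ P) :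
    (Finset.univ.filter fun y : P => (y : G) ∈ V).card = Nat.card V := by
  rw [← Nat.card_congr (subgroupOfEquivOfLe hV).toEquiv]
  exact card_filter_eq_card (s := (V.subgroupOf P : Set P)) fun _ => Iff.rfl

theorem nine_fix (h16 : Nat.card P = 16) (he : ee P = 9) (hA : A ≤ NN P) (h1 : ¬ A ≤ CC P) :
    Nat.card (P ⊓ CC A : Subgroup G) = 1 ∨ Nat.card (P ⊓ CC A : Subgroup G) = 4 := by
  have a := card_fix Nat.prime_three (k := 2) he hA
  have b := card_dvd_of_le (inf_le_left : P ⊓ CC A ≤ P)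
  have c : Nat.card (P ⊓ CC A : Subgroup G) ≠ 16 := fun e => h1 fun a ha x hx =>
    (((LocalEven.eq_of_le_of_card_le inf_le_left (h16.trans e.symm).le).ge hx).2 a ha).symm
  rw [h16] at a b
  have d := Nat.le_of_dvd (by norm_num) b
  generalize Nat.card (P ⊓ CC A : Subgroup G) = m at *
  unfold Nat.ModEq at a
  interval_cases m <;> omega

theorem nine_struct (h : AbSyl 2 P) (h16 : Nat.card P = 16) (he : ee P = 9) :
    ∃ V W : Subgroup G, NN P ≤ NN V ∧ NN P ≤ NN W ∧ V.relIndex P = 4 ∧ W.relIndex P = 4 ∧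
      (∀ x ∈ P, Reg P x ↔ x ∉ V ∧ x ∉ W) ∧ (∃ t ∈ P, Reg P t) ∧
      ∀ x ∈ P, x ≠ 1 → ¬ NN P ≤ Cx x := by
  have : Fact (Nat.Prime 3) := ⟨Nat.prime_three⟩
  have hc := abel_of_comm (IsPGroup.isMulCommutative_of_card_eq_prime_sq (p := 3) he)
  have h2 : Nat.card P < 2 * ee P := by omega
  have k0 : ∀ V ≤ P, Nat.card V ≤ 4 → ∃ x ∈ P, x ∉ V ∧ ¬ Reg P x := fun V hV h4 => by
    by_contra! k
    have a := Finset.card_filter_add_card_filter_not (s := Finset.univ) fun y : P => (y : G) ∈ V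
    have b := Finset.card_le_card (show (Finset.univ.filter fun y : P => (y : G) ∉ V) ⊆
      Finset.univ.filter fun y : P => Reg P y from fun y hy => by simpa using k y y.2 (by simpa using hy))
    rw [card_filter_mem hV, Finset.card_univ, ← Nat.card_eq_fintype_card] at a
    obtain ⟨y, hy⟩ := Finset.card_pos.1 (show 0 < (Finset.univ.filter fun y : P => Reg P y).card by omega)
    rw [card_reg h h2 y.2 (Finset.mem_filter.1 hy).2] at b
    omega
  have k1 : ∀ x ∈ P, x ≠ 1 → ¬ Reg P x → Nat.card (Vx P x) = 4 := fun x hx x1 k =>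
    (nine_fix h16 he inf_le_left k).resolve_left fun e => x1 (by
      simpa [card_eq_one.1 e] using mem_Vx hx)
  obtain ⟨x, hx, x1, rx⟩ := k0 ⊥ bot_le (by simp)
  have cx := k1 x hx x1 rx
  obtain ⟨y, hy, yx, ry⟩ := k0 (Vx P x) inf_le_left cx.le
  have cy := k1 y hy (fun e => yx (e ▸ one_mem _)) ry
  have k2 : Vx P x ⊓ Vx P y = ⊥ := by
    have a := nine_fix h16 he (A := NN P ⊓ Cx x ⊔ NN P ⊓ Cx y) (sup_le inf_le_left inf_le_left)
      fun k => rx (le_sup_left.trans k)
    rw [show P ⊓ CC (NN P ⊓ Cx x ⊔ NN P ⊓ Cx y) = Vx P x ⊓ Vx P y by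
      ext z
      simp only [← zpowers_le, le_inf_iff, le_centralizer_iff (H := zpowers z), sup_le_iff]
      tauto] at a
    exact card_eq_one.1 (a.resolve_right fun e => yx
      (((LocalEven.eq_of_le_of_card_le inf_le_right (cy.trans e.symm).le).ge (mem_Vx hy)).1))
  have k3 : Reg P (x * y) := by
    have k : NN P ⊓ Cx (x * y) ≤ NN P ⊓ Cx x := fun n hn => mem_inf.2 ⟨hn.1, mem_Cx'.2 (by
      have a : x⁻¹ * (n * x * n⁻¹) = y * (n * y * n⁻¹)⁻¹ := by
        rw [inv_mul_eq_iff_eq_mul, ← mul_assoc x, ← mem_Cx'.1 hn.2]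
        group
      have b : x⁻¹ * (n * x * n⁻¹) ∈ Vx P x ⊓ Vx P y := mem_inf.2
        ⟨mul_mem (inv_mem (mem_Vx hx)) (conj_mem (NN_le_Vx hc hx hn.1) (mem_Vx hx)),
          a ▸ mul_mem (mem_Vx hy) (inv_mem (conj_mem (NN_le_Vx hc hy hn.1) (mem_Vx hy)))⟩
      rw [k2, mem_bot] at b
      exact (inv_mul_eq_one.1 b).symm)⟩
    by_contra e
    have a := k1 _ (mul_mem hx hy) (fun e => yx
      (eq_inv_of_mul_eq_one_right e ▸ inv_mem (mem_Vx hx))) e
    exact yx ((mul_mem_cancel_left (mem_Vx hx)).1 ((LocalEven.eq_of_le_of_card_le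
      (inf_le_inf_left P (centralizer_le k)) (a.trans cx.symm).le).ge (mem_Vx (mul_mem hx hy))))
  have k4 : ∀ x, Nat.card (Vx P x) = 4 → (Vx P x).relIndex P = 4 := fun x e => by
    have := Core.card_mul_relIndex (inf_le_left : Vx P x ≤ P)
    rw [e, h16] at this
    exact Nat.eq_of_mul_eq_mul_left (by norm_num) (this.trans (rfl : 16 = 4 * 4))
  refine ⟨_, _, NN_le_Vx hc hx, NN_le_Vx hc hy, k4 x cx, k4 y cy, fun z hz => ⟨fun k =>
    ⟨fun e => rx ((le_of_mem_Vx e).trans k), fun e => ry ((le_of_mem_Vx e).trans k)⟩, ?_⟩,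
    ⟨_, mul_mem hx hy, k3⟩, fun z hz z1 k => z1 (mem_bot.1 (k2 ▸ mem_inf.2
      ⟨mem_inf.2 ⟨hz, fun n hn => mem_Cx.1 (k hn.1)⟩, mem_inf.2 ⟨hz, fun n hn => mem_Cx.1 (k hn.1)⟩⟩))⟩
  have a := Finset.card_filter_add_card_filter_not (s := Finset.univ) fun y : P => Reg P y
  have b := Finset.card_union_add_card_inter (Finset.univ.filter fun z : P => (z : G) ∈ Vx P x)
    (Finset.univ.filter fun z : P => (z : G) ∈ Vx P y)
  rw [← Finset.filter_and, ← Finset.filter_or, card_filter_mem inf_le_left,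
    card_filter_mem inf_le_left, Finset.filter_congr fun (z : P) _ => mem_inf.symm,
    card_filter_mem (inf_le_left.trans inf_le_left), k2, card_bot, cx, cy] at b
  rw [card_reg h h2 (mul_mem hx hy) k3, Finset.card_univ, ← Nat.card_eq_fintype_card] at a
  have c := Finset.eq_of_subset_of_card_le (s := Finset.univ.filter fun z : P =>
    (z : G) ∈ Vx P x ∨ (z : G) ∈ Vx P y) (t := Finset.univ.filter fun z : P => ¬ Reg P z)
    (fun z hz => Finset.mem_filter.2 ⟨Finset.mem_univ _, fun k => (Finset.mem_filter.1 hz).2.elim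
      (fun e => rx ((le_of_mem_Vx e).trans k)) fun e => ry ((le_of_mem_Vx e).trans k)⟩) (by omega)
  exact fun k => by_contra fun e => (Finset.mem_filter.1 (c.ge (Finset.mem_filter.2
    ⟨Finset.mem_univ ⟨z, hz⟩, e⟩))).2.elim k.1 k.2

theorem nine (hM : IsPModular 2 M) (h : AbSyl 2 P) (h16 : Nat.card P = 16) (he : ee P = 9)
    (hi : (∃ t ∈ P, Reg P t) → ∃ t ∈ P, Reg P t ∧ t * t = 1) : kk M G = 16 ∧ ll 2 M G = 9 := by
  obtain ⟨V, W, h1, h2, h3, h4, h5, h6, h7⟩ := nine_struct h h16 he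
  obtain ⟨t, ht, rt, t2⟩ := hi h6
  have k1 := ee_mul_kk hM h
  have k0 : (1 : P) ∈ Finset.univ.filter fun x : P => ¬ Reg P x :=
    Finset.mem_filter.2 ⟨Finset.mem_univ _, fun k => ((h5 _ (one_mem _)).1 k).1 (one_mem _)⟩
  rw [← Finset.sum_filter_add_sum_filter_not _ fun x : P => Reg P x,
    Finset.sum_congr rfl fun x hx => term_eq_one hM h x.2 (Finset.mem_filter.1 hx).2,
    ← Finset.add_sum_erase _ _ k0, coe_one, term_one,
    Finset.sum_congr (s₁ := Finset.erase _ 1) rfl (g := fun _ => 9) fun x hx => ?_] at k1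
  · have a := Finset.card_filter_add_card_filter_not (s := Finset.univ) fun y : P => Reg P y
    have b := Finset.card_erase_add_one k0
    simp only [Finset.sum_const, smul_eq_mul] at k1
    rw [card_reg h (by omega) ht rt, he] at a k1
    rw [Finset.card_univ, ← Nat.card_eq_fintype_card] at a
    have c : ll 2 M G ≠ 1 := fun e => by
      have := le_of_npc h le_top (Transfer.hasNormalPComplement_top_iff.2 (npc_of_ll hM e))
      rw [inf_top_eq, ← relIndex_eq_one] at this
      exact absurd (he.symm.trans this) (by norm_num)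
    have d : 0 < ll 2 M G := blockRank_pos hM.1 ⟨_, oneIrr_mem_principalBlock hM⟩
    have := kk_sixteen hM h h16 h1 h2 h3 h4 ht t2 ((h5 t ht).1 rt).1 ((h5 t ht).1 rt).2
      (npc_of_le h (le_Cx h ht) rt)
      (fun x hx a b => Reg.isConj h (by omega) ht hx rt ((h5 x hx).2 ⟨a, b⟩)) (by omega)
    omega
  · have k2 : eH P (Cx (x : G)) = 3 := by
      obtain ⟨i, hi, e⟩ := (Nat.dvd_prime_pow Nat.prime_three (m := 2)).1 (he ▸ eH_dvd P (Cx (x : G)))
      interval_cases i
      · exact absurd (relIndex_eq_one.1 e) (Finset.mem_filter.1 (Finset.mem_of_mem_erase hx)).2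
      · exact e
      · exact absurd ((le_sup_of_eH (he.trans e.symm).le).trans (sup_le le_rfl (CC_le_Cx x.2)))
          (h7 x x.2 fun k => Finset.ne_of_mem_erase hx (Subtype.ext k))
    have k3 := le_Cx h x.2
    rw [((sf_of_prime (ab_sub h k3) (by rw [ee_sub k3, k2]; exact Nat.prime_three)).main hM).1,
      ee_sub k3, k2]

theorem Reg.lt (h : AbSyl p P) {x : G} (hx : x ∈ P) (x1 : x ≠ 1) (k : Reg P x) :
    ee P < Nat.card P ∧ (ee P + 1 = Nat.card P → Free P) := by
  have k1 : (Finset.univ.filter fun y : P => IsConj x y) ⊆ Finset.univ.erase 1 := fun y hy =>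
    Finset.mem_erase.2 ⟨fun e => x1 (by simpa [e] using hy), Finset.mem_univ _⟩
  have k2 := Finset.card_erase_add_one (Finset.mem_univ (1 : P))
  have k3 := Finset.card_le_card k1
  rw [Finset.card_univ, ← Nat.card_eq_fintype_card] at k2
  rw [k.card h hx] at k3
  refine ⟨by omega, fun e y hy y1 => k.conj h hx hy (Finset.mem_filter.1 ((Finset.eq_of_subset_of_card_le
    k1 (by rw [k.card h hx]; omega)).ge (Finset.mem_erase.2
      ⟨fun e => y1 (congrArg Subtype.val e), Finset.mem_univ (⟨y, hy⟩ : P)⟩))).2⟩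

theorem small (hM : IsPModular 2 M) (h : AbSyl 2 P) {t : G} (ht : t ∈ P) (t2 : orderOf t = 2)
    (hC : HasNormalPComplement 2 (Cx t)) : (Nat.card P = 8 → kk M G = 8) ∧
      (Nat.card P = 16 → kk M G = 8 ∨ kk M G = 16) := by
  have rt : Reg P t := le_of_npc h (le_Cx h ht) hC
  obtain ⟨k1, k2⟩ := rt.lt h ht (LocalEven.ne_one_of_orderOf_eq t2)
  have k3 := kk_le hM h ht (Inv.mul_self_of_two t2) hC
  have k4 := not_dvd_ee h
  have k5 : ee P ≠ 9 → Nat.card P = 8 ∨ Nat.card P = 16 → SF P := fun h9 hP => by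
    by_cases h1 : ee P = 1
    · have := relIndex_eq_one.1 h1
      exact ⟨h, fun x _ => .inr (inf_le_left.trans this), Subgroup.commutator_le.2 fun a ha b hb => this
        (mul_mem (mul_mem (mul_mem ha hb) (inv_mem ha)) (inv_mem hb))⟩
    by_cases h15 : ee P = 15
    · exact ⟨h, fun x hx => (eq_or_ne x 1).imp (fun e _ _ => by simp [e, mem_Cx])
        (k2 (by omega) x hx), abel_of_comm (comm_fifteen h15)⟩
    refine sf_of_prime h ?_
    have : ee P < 16 := by omega
    interval_cases ee P <;> first | omega | norm_num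
  have k6 := card_dvd_of_le (inf_le_left : P ⊓ CC (NN P) ≤ P)
  constructor <;> intro hP
  · have k7 := (k5 (by omega) (.inl hP)).formula hM
    rw [hP] at k1 k3 k6 k7
    have := Nat.le_of_dvd (by norm_num) k6
    generalize Nat.card (P ⊓ CC (NN P) : Subgroup G) = z at *
    interval_cases ee P <;> interval_cases z <;> omega
  · by_cases h9 : ee P = 9
    · exact .inr (nine hM h hP h9 fun _ => ⟨t, ht, rt, Inv.mul_self_of_two t2⟩).1
    have k7 := (k5 h9 (.inr hP)).formula hM
    rw [hP] at k1 k3 k6 k7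
    obtain ⟨i, hi, e⟩ := (Nat.dvd_prime_pow Nat.prime_two (m := 4)).1 k6
    rw [e] at k7
    interval_cases ee P <;> interval_cases i <;> omega

end Cfsg.Agent.Blk2
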