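import Mathlib
import Cfsg.Agent.Blk2.Frob
import Cfsg.Agent.S4483
import Cfsg.Agent.Char.Clifford

/-! Real characters of groups with abelian Sylow `2`-subgroups. -/

set_option autoImplicit false

namespace Cfsg.Agent.Blk2

open Cfsg Cfsg.Agent.Char Cfsg.Agent.Block Subgroup
open scoped _root_.Classical ComplexConjugate

variable {G : Type*} [Group G] {M : Ideal AlgInt} {P : Subgroup G}

/-- invariance under inversion -/
def Rl (θ : G → ℂ) : Prop := ∀ g, θ g⁻¹ = θ g

theorem Rl.comp {H : Type*} [Group H] {θ : G → ℂ} (h : Rl θ) (f : H →* G) : Rl fun x => θ (f x) :=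
  fun x => by simp only [map_inv, h _]

variable [Fintype G]

theorem Rl.inner_dual {θ : G → ℂ} (h : Rl θ) (χ : IrrCharacter G) :
    classInner θ (dualIrr χ).1 = classInner θ χ.1 := by
  rw [classInner_def, classInner_def, ← Equiv.sum_comp (Equiv.inv G)]
  simp [dualIrr, h _]

theorem rl_of_dual {χ : IrrCharacter G} (h : dualIrr χ = χ) : Rl χ.1 :=
  congrFun (congrArg Subtype.val h)

theorem Rl.ind {H : Subgroup G} {θ : H → ℂ} (h : Rl θ) (hθ : IsGeneralizedCharacter H θ) :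
    Rl (indFun H θ) := fun g => by
  rw [isGenChar_inv (IndRep.isGenChar_indFun H hθ), ← Ind.indFun_star]
  exact congrFun (congrArg _ (funext fun x => (isGenChar_inv hθ x).symm.trans (h x))) g

theorem Rl.mem (hM : IsPModular 2 M) {χ : IrrCharacter G} (h : Rl χ.1) (ho : Odd (charDegree χ.1)) :
    χ ∈ principalBlock M G :=
  (S4483.result M hM).1 χ (fun g => Complex.conj_eq_iff_im.1
    ((isChar_inv (irr_isChar χ) g).symm.trans (h g))) ho

theorem Rl.exists_odd {θ : G → ℂ} (h : Rl θ) (hθ : IsGeneralizedCharacter G θ) {n : ℤ}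
    (hn : classInner θ θ = n) (ho : Odd n) :
    ∃ χ : IrrCharacter G, Rl χ.1 ∧ ∃ m : ℤ, Odd m ∧ classInner θ χ.1 = m := by
  obtain ⟨m, hm, -⟩ := isGenChar_exists_mult hθ
  by_contra! k
  rw [classInner_eq_sum_of_mult (isGenChar_classFun hθ) hm hm, Int.cast_inj] at hn
  have k1 : ∀ χ, m (dualIrr χ) = m χ := fun χ =>
    Int.cast_injective (α := ℂ) (by rw [← hm, ← hm, h.inner_dual])
  have k2 : ∑ χ, ((m χ * m χ : ℤ) : ZMod 2) = 0 :=
    Finset.sum_involution (fun χ _ => dualIrr χ) (fun χ _ => by rw [k1, CharTwo.add_self_eq_zero])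
      (fun χ _ e e' => k χ (rl_of_dual e') (m χ) (Int.not_even_iff_odd.1 fun k => e
        ((ZMod.intCast_eq_zero_iff_even).2 (k.mul_right _))) (hm χ))
      (fun _ _ => Finset.mem_univ _) fun χ _ => Subtype.ext (by simp [dualIrr])
  rw [← Int.cast_sum, hn, ZMod.intCast_eq_zero_iff_even] at k2
  exact Int.not_even_iff_odd.2 ho k2

theorem exists_real_odd (h : Even (Nat.card G)) :
    ∃ χ : IrrCharacter G, χ.1 ≠ (fun _ => 1) ∧ Rl χ.1 ∧ Odd (charDegree χ.1) := by
  obtain ⟨χ, h1, m, h2, h3⟩ := Rl.exists_odd (θ := regChar G - fun _ => 1)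
    (fun g => by simp [regChar_apply])
    (isGenChar_sub (isChar_isGenChar isChar_regChar) isGenChar_one) (n := Nat.card G - 1) (by
      simp [classInner_sub_left, classInner_regChar_left, classInner_sub_right,
        classInner_regChar_right, classInner_one_one, regChar_one])
    (((Int.even_coe_nat _).2 h).sub_odd odd_one)
  rw [classInner_sub_left, classInner_regChar_left, isChar_conj_one (irr_isChar χ)] at h3
  have h4 : χ.1 ≠ fun _ => 1 := fun e => by
    rw [e, classInner_one_one, sub_self, eq_comm, Int.cast_eq_zero] at h3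
    simp [h3] at h2
  rw [classInner_isIrr_ne isIrr_one χ.2 h4.symm, sub_zero, ← charDegree_cast (irr_isChar χ)] at h3
  exact ⟨χ, h4, h1, by rwa [← Int.odd_coe_nat, show (charDegree χ.1 : ℤ) = m by exact_mod_cast h3]⟩

theorem exists_real_over {N : Subgroup G} [N.Normal] (ho : Odd N.index) {ψ : IrrCharacter N}
    (h : Rl ψ.1) : ∃ χ : IrrCharacter G, Rl χ.1 ∧ charDegree ψ.1 ∣ charDegree χ.1 := by
  obtain ⟨χ, h1, m, h2, h3⟩ := (h.ind (irr_isGenChar ψ)).exists_odd
    (IndRep.isGenChar_indFun N (irr_isGenChar ψ)) (n := N.relIndex (Clifford.inertia N ψ.1))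
    (by exact_mod_cast Clifford.inner_indFun_self ψ.2)
    ((Int.odd_coe_nat _).2 (ho.of_dvd_nat (relIndex_dvd_index_of_normal _ _)))
  rw [Ind.inner_indFun_left _ _ (irr_classFun χ)] at h3
  replace h3 := classInner_comm_of_intCast h3
  have h4 := Clifford.degree_eq χ.2 ψ.2 (h3 ▸ Int.cast_ne_zero.2 fun e => by simp [e] at h2)
  rw [h3, ← charDegree_cast (irr_isChar χ), ← charDegree_cast (irr_isChar ψ), ← mul_assoc] at h4
  refine ⟨χ, h1, Int.natCast_dvd_natCast.1 ⟨m * (Clifford.inertia N ψ.1).index, ?_⟩⟩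
  rw [mul_comm]
  exact_mod_cast h4

theorem lift_real (hM : IsPModular 2 M) {t : G} (t1 : t ≠ 1) {α : Cx t → ℂ}
    (hα : IsGeneralizedCharacter _ α) (h0 : ∀ c : Cx t, ¬ IsPPart 2 (c : G) t → α c = 0)
    (hn : classInner α α = 2) (hr : Rl α)
    (hB : ∀ ψ ∈ principalBlock M (Cx t), classInner α ψ.1 = 0) :
    ∃ χ : IrrCharacter G, Even (charDegree χ.1) ∧ Rl χ.1 := by
  have hA := IndRep.isGenChar_indFun (Cx t) hα
  obtain ⟨m, hm, e⟩ := isGenChar_exists_mult hA
  have k0 : ∀ {f f' : Cx t → ℂ}, (∀ c : Cx t, IsPPart 2 (c : G) t → f c = f' c) →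
      classInner α f = classInner α f' := fun h => by
    rw [classInner_def, classInner_def]
    exact congrArg _ (Finset.sum_congr rfl fun c _ => by
      by_cases k : IsPPart 2 (c : G) t
      · rw [h c k]
      · rw [h0 c k, zero_mul, zero_mul])
  have k1 := classInner_eq_sum_of_mult (isGenChar_classFun hA) hm hm
  rw [Ind.inner_indFun_left _ _ (isGenChar_classFun hA),
    k0 fun c hc => indFun_eq_of_section hM.1 (isGenChar_classFun hα) h0 hc, hn] at k1
  replace k1 : ∑ χ, m χ * m χ = 2 := by exact_mod_cast k1.symm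
  obtain ⟨χ, -, hχ⟩ := Finset.exists_ne_zero_of_sum_ne_zero (k1.trans_ne two_ne_zero)
  have k2 : dualIrr χ = χ := by
    by_contra k
    have k3 : m (dualIrr χ) = m χ :=
      Int.cast_injective (α := ℂ) (by rw [← hm, ← hm, (hr.ind hα).inner_dual])
    have k4 := Finset.sum_sdiff (f := fun χ => m χ * m χ) (Finset.subset_univ {dualIrr χ, χ})
    rw [Finset.sum_pair k, k3, k1] at k4
    have k5 := (Finset.sum_eq_zero_iff_of_nonneg fun ψ _ => mul_self_nonneg (m ψ)).1
      (le_antisymm (by have := (mul_self_nonneg (m χ)).lt_of_ne' hχ; omega)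
        (Finset.sum_nonneg fun ψ (_ : ψ ∈ Finset.univ \ {dualIrr χ, χ}) => mul_self_nonneg (m ψ)))
    have k6 := congrFun e 1
    rw [Ind.indFun_one, h0 1 fun h => t1 ((pPart_eq_one_iff hM.1 h).2 (by simp)), mul_zero,
      Finset.sum_apply, ← Finset.sum_sdiff (Finset.subset_univ {dualIrr χ, χ}), Finset.sum_pair k,
      Finset.sum_eq_zero fun ψ hψ => by simp [mul_self_eq_zero.1 (k5 ψ hψ)], k3] at k6
    simp [dualIrr, ← two_mul, isIrr_one_ne_zero χ.2] at k6
    simp [k6] at hχ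
  refine ⟨χ, Nat.not_odd_iff_even.1 fun ho => hχ ?_, rl_of_dual k2⟩
  have k3 := hm χ
  rw [Ind.inner_indFun_left _ _ (irr_classFun χ), k0 fun c hc => (congrFun
    (blockPart_irr_of_mem ((rl_of_dual k2).mem hM ho)) _).symm.trans
    (blockPart_principal hM c hc (irr_classFun χ)), blockPart_eq_sum_smul, classInner_sum_right,
    Finset.sum_eq_zero fun ψ hψ => by
      rw [classInner_smul_right, hB ψ (Finset.mem_filter.1 hψ).2, mul_zero]] at k3
  rw [Int.cast_eq_zero.1 k3.symm, mul_zero]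

/-- The sign character of a subgroup of index two. -/
noncomputable def sgn {H : Type*} [Group H] {E : Subgroup H} (h : E.index = 2) : H →* ℂˣ :=
  MonoidHom.mk' (fun c => if c ∈ E then 1 else -1) fun a b => by
    by_cases ha : a ∈ E <;> by_cases hb : b ∈ E <;> simp [mul_mem_iff_of_index_two h, ha, hb]

/-- The projection onto a complement of a central involution. -/
noncomputable def prj {H : Type*} [Group H] {E : Subgroup H} (h : E.index = 2) {z : H}
    (hz : z ∈ center H) (z2 : z * z = 1) (zE : z ∉ E) : H →* E :=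
  MonoidHom.mk' (fun c => ⟨if c ∈ E then c else z * c, by
    by_cases k : c ∈ E <;> simp [mul_mem_iff_of_index_two h, k, zE]⟩) fun a b => Subtype.ext (by
    have k := mem_center_iff.1 hz a
    by_cases ha : a ∈ E <;> by_cases hb : b ∈ E <;>
      simp only [mul_mem_iff_of_index_two h, ha, hb, coe_mul, if_true, if_false, iff_true, iff_false,
        not_true, not_false_iff, ← mul_assoc, k]
    rw [mul_assoc z a, k, ← mul_assoc, z2, one_mul])

theorem exists_alpha {H : Type*} [Group H] [Fintype H] (hM : IsPModular 2 M) {P E : Subgroup H}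
    (hP : AbSyl 2 P) (h : E.index = 2) {z : H} (hz : z ∈ center H) (z2 : z * z = 1) (zE : z ∉ E)
    {u : H} (hu : u ∈ P) (uz : u ≠ z) (u1 : u ≠ 1) {ψ : IrrCharacter E} (hr : Rl ψ.1)
    (h0 : ∀ e : E, 2 ∣ orderOf e → ψ.1 e = 0) : ∃ α : H → ℂ, IsGeneralizedCharacter _ α ∧
      (∀ c, ¬ IsPPart 2 c z → α c = 0) ∧ classInner α α = 2 ∧ Rl α ∧
      ∀ χ ∈ principalBlock M H, classInner α χ.1 = 0 := by
  let π := prj h hz z2 zE
  have hπ : ∀ c, (π c : H) = if c ∈ E then c else z * c := fun c => rfl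
  have h1 : IsIrrCharacter H fun c => ψ.1 (π c) :=
    isIrr_comp_surjective π (fun e => ⟨e, Subtype.ext (by simp [hπ])⟩) ψ.2
  have h2 := isIrr_linear_mul h1 (sgn h)
  have h3 : (fun c => ψ.1 (π c)) ≠ fun c => sgn h c * ψ.1 (π c) := fun e => by
    have := congrFun e z
    rw [show π z = 1 from Subtype.ext (by simp [hπ, zE, z2])] at this
    simp [sgn, zE, eq_neg_iff_add_eq_zero, isIrr_one_ne_zero ψ.2] at this
  have h4 : ∀ c, ψ.1 (π c) ≠ 0 → pp 2 c = 1 ∨ pp 2 c = z := fun c hc => by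
    have := congrArg Subtype.val ((pPart_eq_one_iff hM.1 (pPart_map hM.1 π (isPPart_pp hM.1 c))).2
      fun k => hc (h0 _ k))
    rw [hπ] at this
    split_ifs at this
    · exact .inl this
    · exact .inr ((eq_inv_of_mul_eq_one_right this).trans (eq_inv_of_mul_eq_one_right z2).symm)
  obtain ⟨S, rfl⟩ := exists_sylow hP
  have h5 : ∀ χ ∈ principalBlock M H, ∃ c, ψ.1 (π c) = 0 ∧ χ.1 c ≠ 0 := fun χ hχ => by
    obtain ⟨g, k1, k2⟩ := exists_apply_ne_zero_of_central hM isPBlock_principalBlock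
      (isDefectGroup_principal_sylow hM S) hu (hP.comm hu) hχ
    exact ⟨g, by_contra fun k => (h4 g k).elim (fun e => u1 (k1.symm.trans e))
      fun e => uz (k1.symm.trans e), k2⟩
  refine ⟨_, isGenChar_sub (isIrr_isGenChar h1) (isIrr_isGenChar h2), fun c hc => ?_, ?_,
    fun c => by simp [sgn, hr _], fun χ hχ => ?_⟩
  · by_cases k : ψ.1 (π c) = 0
    · simp [k]
    have k1 := (pPart_eq_one_iff hM.1 (isPPart_pp hM.1 c)).1
      ((h4 c k).resolve_right fun e => hc ((pp_eq_iff hM.1).1 e))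
    have k2 : c ∈ E := by_contra fun e => k1 (by
      have := orderOf_map_dvd (sgn h) c
      rwa [show sgn h c = -1 by simp [sgn, e], two_of_sq (by simp) (by norm_num [Units.ext_iff])] at this)
    simp [sgn, k2]
  · simp [classInner_sub_left, classInner_sub_right, classInner_isIrr_self h1,
      classInner_isIrr_self h2, classInner_isIrr_ne h1 h2 h3, classInner_isIrr_ne h2 h1 h3.symm]
    norm_num
  · obtain ⟨c, k1, k2⟩ := h5 χ hχ
    rw [classInner_sub_left, classInner_isIrr_ne h1 χ.2 fun e => k2 (by rw [← e]; exact k1),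
      classInner_isIrr_ne h2 χ.2 fun e => k2 (by rw [← e]; simp [k1]), sub_zero]

/-- There is a real irreducible character whose degree satisfies `q`. -/
def HasRl (G : Type*) [Group G] (q : ℕ → Prop) : Prop :=
  ∃ χ : IrrCharacter G, Rl χ.1 ∧ q (charDegree χ.1)

omit [Fintype G] in
theorem HasRl.congr {H : Type*} [Group H] {q : ℕ → Prop} (h : HasRl G q) (e : H ≃* G) :
    HasRl H q :=
  let ⟨χ, h1, h2⟩ := h
  ⟨⟨_, isIrr_comp_equiv e χ.2⟩, h1.comp e.toMonoidHom, by simpa [charDegree] using h2⟩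

section psl

variable {F : Type*} [Field F] [Fintype F]

theorem rl_of_inv {f : GL2.M2 F → ℂ} (h : GL2.Inv f) :
    Rl fun s : Matrix.SpecialLinearGroup (Fin 2) F => f s := fun s => by
  have k : ((s⁻¹ : Matrix.SpecialLinearGroup (Fin 2) F) : GL2.M2 F) =
      !![s.1 1 1, -s.1 0 1; -s.1 1 0, s.1 0 0] := by
    rw [Matrix.SpecialLinearGroup.coe_inv, Matrix.adjugate_fin_two]
  by_cases hs : GL2.Sc s.1
  · exact congrArg f (k.trans (hs.eq.trans (by simp [hs.1, hs.2.1, hs.2.2])).symm)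
  · exact h _ _ (fun e => hs (by simpa [k, GL2.Sc, eq_comm] using e)) hs
      (by simp [k, Matrix.trace_fin_two, add_comm]) (s⁻¹.2.trans s.2.symm)

theorem hasRl_psl {χ : Matrix.SpecialLinearGroup (Fin 2) F → ℂ} (h : IsIrrCharacter _ χ)
    (h1 : χ (-1) = χ 1) (hr : Rl χ) {d : ℕ} (hd : χ 1 = d) :
    HasRl (Matrix.ProjectiveSpecialLinearGroup (Fin 2) F) (· = d) := by
  obtain ⟨ψ, h2, rfl⟩ := GL2.exists_PSL h h1
  exact ⟨⟨ψ, h2⟩, fun g => g.inductionOn hr, charDegree_of_eq hd⟩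

theorem hasRl_q : HasRl (Matrix.ProjectiveSpecialLinearGroup (Fin 2) F) (· = Fintype.card F) :=
  hasRl_psl GL2.isIrr_Sts GL2.Sts_neg_one (fun g => congrArg (· - 1) (rl_of_inv (GL2.inv_R _) g))
    GL2.Sts_one

theorem hasRl_succ (h4 : 4 ≤ Fintype.card F) (h5 : Fintype.card F ≠ 5) :
    HasRl (Matrix.ProjectiveSpecialLinearGroup (Fin 2) F) (· = Fintype.card F + 1) := by
  obtain ⟨α, h1, h2⟩ := GL2.exists_mc4 F (by
    rw [Nat.card_units, Nat.card_eq_fintype_card]
    intro h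
    have := Nat.le_of_dvd (by norm_num) h
    obtain e : Fintype.card F = 4 := by omega
    simp [e] at h)
  refine hasRl_psl (GL2.isIrr_PSs_iff.2 h1) ?_ (rl_of_inv (GL2.inv_R _)) (by simp [GL2.PSs_one])
  rw [GL2.PSs_one, GL2.PSs, GL2.R_sc' _ (by simp [GL2.Sc])]
  simp [h2]

theorem hasRl_pred (h4 : 4 ≤ Fintype.card F) :
    HasRl (Matrix.ProjectiveSpecialLinearGroup (Fin 2) F) (· = Fintype.card F - 1) := by
  obtain ⟨a, b, hab⟩ := GL2.exists_quad F
  have := Fact.mk hab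
  obtain ⟨η, h1, h2⟩ := GL2.exists_mc4 (GL2.U1 a b) (by
    rw [GL2.card_U1']
    exact fun h => absurd (Nat.le_of_dvd (by norm_num) h) (by omega))
  refine hasRl_psl (GL2.isIrr_Cus h1) ?_ (rl_of_inv (GL2.inv_C _))
    (by rw [GL2.Cus_one, Nat.cast_pred Fintype.card_pos])
  rw [GL2.Cus_one, GL2.Cus, GL2.C_sc' _ (by simp [GL2.Sc])]
  have := h2 ⟨-1, by simp [GL2.mem_U1]⟩ (Subtype.ext (by simp))
  rw [← GL2.xU_coe] at this
  simp [this]

end psl

theorem hasRl_four [IsSimpleGroup G] (hn : ¬ IsMulCommutative G) (h : Gs.Four G) :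
    HasRl G (4 ∣ ·) := by
  obtain ⟨F, _, _, h1, h2, ⟨e⟩⟩ := GsC.four_known hn h
  rcases h1 with h1 | h1
  · obtain ⟨χ, k1, k2⟩ := (hasRl_succ (F := F) (by omega) (by omega)).congr e
    exact ⟨χ, k1, by omega⟩
  · obtain ⟨χ, k1, k2⟩ := (hasRl_pred (F := F) (by omega)).congr e
    exact ⟨χ, k1, by omega⟩

theorem hasRl_JR [IsSimpleGroup G] (hM : IsPModular 2 M) (hn : ¬ IsMulCommutative G)
    (h : Gs.JR G) : HasRl G Even := by
  obtain ⟨S⟩ : Nonempty (Sylow 2 G) := inferInstance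
  obtain ⟨t, ht, t2⟩ := LocalEven.exists_mem_orderOf_eq_of_ne_bot S.isPGroup' (GsC.syl_ne_bot hn S)
  obtain ⟨E, E₀, h1⟩ := h.shape t t2
  have := h1.simple
  have := (normal_subgroupOf_iff_le_normalizer h1.le).2 h1.norm
  obtain ⟨ψ₀, k1, k2⟩ := (hasRl_four h1.nab h1.four).congr (subgroupOfEquivOfLe h1.le)
  obtain ⟨ψ, k3, k4⟩ := exists_real_over (Nat.odd_iff.2 (Nat.two_dvd_ne_zero.1
    (GsC.JRC_odd h t2 h1))) k1
  obtain ⟨ψ', k5, k6⟩ := HasRl.congr (q := (4 ∣ ·)) ⟨ψ, k3, k2.trans k4⟩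
    (subgroupOfEquivOfLe h1.prod.2.1)
  have hS := ab_sylow S (GsC.JR_comm h S)
  have k7 := GsC.card_cz t2 h1.prod
  have k8 := Nat.card_congr (subgroupOfEquivOfLe h1.prod.2.1).toEquiv
  obtain ⟨u, hu, u1⟩ : ∃ u ∈ (S : Subgroup G), u ∉ zpowers t := by
    by_contra! k
    have := card_le_of_le (show (S : Subgroup G) ≤ _ from k)
    rw [h.card S, Nat.card_zpowers, t2] at this
    omega
  obtain ⟨α, a1, a2, a3, a4, a5⟩ := exists_alpha hM (ab_sub hS (le_Cx hS ht))
    (E := E.subgroupOf (Cx t)) (by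
      refine Nat.eq_of_mul_eq_mul_left (Nat.card_pos (α := E)) ?_
      rw [mul_comm _ 2, ← k7, ← k8, card_mul_index])
    (z := ⟨t, mem_Cx.2 rfl⟩) (mem_center_iff.2 fun c => Subtype.ext (mem_Cx.1 c.2))
    (Subtype.ext (Inv.mul_self_of_two t2)) (GsC.JRC_not_mem (E := E) t2 h1) (u := ⟨u, le_Cx hS ht hu⟩) hu
    (fun e => u1 ((show u = t from congrArg Subtype.val e) ▸ mem_zpowers _))
    (fun e => u1 ((show u = 1 from congrArg Subtype.val e) ▸ one_mem _)) k5 fun e he =>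
      char_eq_zero_of_defect_zero hM (by
        refine le_trans (Nat.lt_succ_iff.1 (not_le.1 fun k => GsC.JR_not16 h ?_))
          ((Nat.prime_two.pow_dvd_iff_le_factorization (k := 2) (irr_degree_ne_zero ψ')).1 k6)
        have := (Nat.prime_two.pow_dvd_iff_le_factorization Nat.card_pos.ne').2 k
        exact (k7 ▸ k8 ▸ mul_dvd_mul_left 2 this).trans (card_subgroup_dvd_card (Cx t))) he
  obtain ⟨χ, b1, b2⟩ := lift_real hM (LocalEven.ne_one_of_orderOf_eq t2) a1
    (fun c hc => a2 c fun k => hc ((pPart_coe_iff hM.1).2 k)) a3 a4 a5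
  exact ⟨χ, b2, b1⟩

theorem hasRl_simple [IsSimpleGroup G] (hM : IsPModular 2 M) (hn : ¬ IsMulCommutative G)
    (S : Sylow 2 G) (hS : IsMulCommutative (S : Subgroup G)) : HasRl G Even := by
  rcases walter hn S hS with h | h | h
  · obtain ⟨F, _, _, n, h1, h2, ⟨e⟩⟩ := h.l2e
    obtain ⟨χ, k1, k2⟩ := (hasRl_q (F := F)).congr e
    exact ⟨χ, k1, k2 ▸ h2 ▸ Nat.even_pow.2 ⟨even_two, by omega⟩⟩
  · obtain ⟨χ, k1, k2⟩ := hasRl_four hn ⟨S, h⟩
    exact ⟨χ, k1, even_iff_two_dvd.2 (dvd_trans (by norm_num) k2)⟩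
  · exact hasRl_JR hM hn h

theorem One.pow_eq_inv (h : One G) {k : ℕ} (h1 : ∀ g : G, (∃ j, orderOf g = 2 ^ j) → g ^ k = g)
    (h2 : ∀ g : G, Odd (orderOf g) → g ^ k = g⁻¹) (g : G) : g ^ k = g⁻¹ := by
  have a := pp_order Nat.prime_two g
  have b := commute_pp_pr Nat.prime_two g
  conv => congr <;> rw [← pp_mul_pr (p := 2) g]
  rw [b.mul_pow, h1 _ a, h2 _ (Nat.odd_iff.2 (Nat.two_dvd_ne_zero.1 (pr_regular Nat.prime_two g))),
    b.eq, mul_inv_rev, inv_eq_of_mul_eq_one_right (h.sq _ a)]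

end Cfsg.Agent.Blk2
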