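import Mathlib
import Cfsg.Agent.Blk2.Frob
import Cfsg.Agent.S4503

/-! Principal `2`-blocks with `χ(1) - χ(u)` constant. -/

set_option autoImplicit false

namespace Cfsg.Agent.Blk2

open Cfsg Cfsg.Agent.Char Cfsg.Agent.Block Subgroup
open scoped _root_.Classical ComplexConjugate

variable {G : Type*} [Group G] [Fintype G] {M : Ideal AlgInt} {P : Subgroup G} {θ : G → ℂ}

theorem exists_constit (hθ : IsCharacter G θ) {g : G} (hg : θ g ≠ θ 1) :
    ∃ ψ : IrrCharacter G, ψ.1 g ≠ ψ.1 1 ∧ classInner θ ψ.1 ≠ 0 := by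
  by_contra! k
  exact hg (apply_eq_of_mem_charKer (mem_charKer_of_forall_constituent (isChar_classFun hθ)
    fun ψ h1 h2 => (mem_charKer_iff (isIrr_isChar h1)).2 (by_contra fun e => h2 (k ⟨ψ, h1⟩ e))))

theorem perfect_of_simple [IsSimpleGroup G] (hn : ¬ IsMulCommutative G) : commutator G = ⊤ :=
  (IsSimpleGroup.eq_bot_or_eq_top_of_normal _ inferInstance).resolve_left fun e =>
    hn (isMulCommutative_of_center_eq_top ((commutator_eq_bot_iff_center_eq_top G).1 e))

theorem psl_small [IsSimpleGroup G] (hn : ¬ IsMulCommutative G) {F : Type*} [Field F] [Fintype F]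
    (e : G ≃* Matrix.ProjectiveSpecialLinearGroup (Fin 2) F) (hθ : IsCharacter G θ) {g : G}
    (hg : θ g ≠ θ 1) : Fintype.card F ≤ 2 * charDegree θ + 1 := by
  obtain ⟨ψ, h1, h2⟩ := exists_constit hθ hg
  have h3 := Constit.degree_le_of_inner_ne_zero hθ ψ.2 h2 (charDegree_cast hθ).symm
    (charDegree_cast (irr_isChar ψ)).symm
  have h4 : charDegree ψ.1 ≠ 1 := fun k => h1 (apply_eq_of_mem_charKer (commutator_le_charKer
    (irr_isChar ψ) (by rw [← charDegree_cast (irr_isChar ψ), k, Nat.cast_one])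
    (perfect_of_simple hn ▸ mem_top g)))
  have h5 := GL2.degs_cases (.inl ⟨e⟩) ⟨ψ, rfl⟩
  omega

theorem not_JR_seven [IsSimpleGroup G] (hn : ¬ IsMulCommutative G) (h : Gs.JR G)
    (hθ : IsCharacter G θ) (hd : charDegree θ = 7) (hv : ∀ t, orderOf t = 2 → θ t = -1) : False := by
  obtain ⟨t, t2⟩ := GsC.exists_inv hn
  obtain ⟨E, E₀, h1⟩ := h.shape t t2
  have := h1.simple
  have hθ1 : θ 1 = (7 : ℕ) := hd ▸ (charDegree_cast hθ).symm
  have k0 : ∀ s, orderOf s = 2 → θ s ≠ θ 1 := fun s hs => by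
    rw [hv s hs, hθ1]
    norm_num
  obtain ⟨F, _, _, k1, k2, ⟨e⟩⟩ := GsC.JRC_known h1
  obtain ⟨s, s2⟩ := GsC.exists_inv h1.nab
  obtain ⟨ψ, k3, k4⟩ := exists_constit (isChar_res (Cx t) hθ) (g := ⟨s, GsC.JRC_le h1 s.2⟩)
    (k0 s ((orderOf_coe s).trans s2))
  have k5 := psl_small h1.nab e (isChar_comp (inclusion (GsC.JRC_le h1)) (irr_isChar ψ)) (g := s) k3
  have k6 : charDegree ψ.1 ≤ 4 := by
    let z : Cx t := ⟨t, mem_Cx.2 rfl⟩
    have a := GL2.isIrr_central ψ.2 (z := z) (mem_center_iff.2 fun c => Subtype.ext (mem_Cx.1 c.2)) z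
    rw [show z * z = 1 from Subtype.ext (Inv.mul_self_of_two t2), div_mul_eq_mul_div,
      eq_div_iff (isIrr_one_ne_zero ψ.2), mul_self_eq_mul_self_iff] at a
    have b := isChar_sub_constituent (isChar_res (Cx t) hθ) ψ.2 k4
    have c := isChar_norm_le b z (charDegree_cast b).symm
    have d := charDegree_cast b
    simp only [Pi.sub_apply, coe_one, hθ1, z, hv t t2] at c d
    rw [← charDegree_cast (irr_isChar ψ)] at a d
    rw [eq_sub_iff_add_eq] at d
    norm_cast at d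
    change _ = ψ.1 ⟨t, _⟩ ∨ _ = -ψ.1 ⟨t, _⟩ at a
    rcases a with a | a
    · rw [← a, ← neg_add', norm_neg, ← Nat.cast_one, ← Nat.cast_add, Complex.norm_natCast,
        Nat.cast_le] at c
      omega
    · rw [← neg_eq_iff_eq_neg.2 a, neg_sub_neg] at c
      have c' := (norm_sub_norm_le _ _).trans c
      rw [Complex.norm_natCast, norm_one, sub_le_iff_le_add] at c'
      norm_cast at c'
      omega
  have k7 : Fintype.card F = 5 := by
    change _ ≤ 2 * charDegree ψ.1 + 1 at k5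
    omega
  have k8 := (GsC.isJ1_of_iso (GsC.JR_isoJ1 h t2 h1 k7 e)).2
  have k9 := S4503.result 19 (by norm_num) (by rw [k8]; norm_num) (by rw [k8]; norm_num)
    (fun H hH k => by
      rcases IsSimpleGroup.eq_bot_or_eq_top_of_normal H hH with rfl | rfl
      · simp at k
      · rw [card_top, k8] at k
        omega) θ hθ fun g hg => by
      have := charKer_normal (isChar_classFun hθ)
      rcases IsSimpleGroup.eq_bot_or_eq_top_of_normal (charKer θ) this with k | k
      · exact mem_bot.1 (k ▸ (mem_charKer_iff hθ).2 hg)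
      · exact absurd (charKer_eq_top_iff.1 k t) (k0 t t2)
  omega

theorem l2e_of_char [IsSimpleGroup G] (hn : ¬ IsMulCommutative G) (h : AbSyl 2 P)
    (hθ : IsCharacter G θ) (hd : charDegree θ + 1 = Nat.card P)
    (hv : ∀ t, orderOf t = 2 → θ t = -1) : CIT.F.L2E G := by
  obtain ⟨S, rfl⟩ := exists_sylow h
  rcases walter hn S h.isMulCommutative with k | k | k
  · exact k.l2e
  · refine (GsC.four_cases' hn ⟨S, k⟩).resolve_right ?_
    rintro ⟨F, _, _, k1, k2, ⟨e⟩⟩
    obtain ⟨t, t2⟩ := GsC.exists_inv hn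
    have := psl_small hn e hθ (g := t) (by
      rw [hv t t2, ← charDegree_cast hθ]
      norm_cast)
    omega
  · exact (not_JR_seven hn k hθ (by have := k.card S; omega) hv).elim

theorem sum_mul_eq_zero {Z : Subgroup G} (hZ : Z ≤ center G) (hθ : IsCharacter G θ) (w : G) :
    ∑ x : Z, θ x = 0 → ∑ x : Z, θ (x * w) = 0 := by
  refine isChar_induction (P := fun θ : G → ℂ => ∑ x : Z, θ x = 0 → ∑ x : Z, θ (x * w) = 0) hθ
    (fun ψ hψ h => ?_) (by simp) fun φ ψ h1 h2 k1 k2 h => ?_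
  · rw [Finset.sum_congr rfl fun (x : Z) _ => GL2.isIrr_central hψ (hZ x.2) w, ← Finset.sum_mul,
      ← Finset.sum_div, h, zero_div, zero_mul]
  · obtain ⟨a, ha⟩ := classInner_isChar_nat (isChar_res Z h1) isChar_one
    obtain ⟨b, hb⟩ := classInner_isChar_nat (isChar_res Z h2) isChar_one
    rw [classInner_one_right, inv_mul_eq_iff_eq_mul₀ card_ne_zero] at ha hb
    simp only [Pi.add_apply, Finset.sum_add_distrib] at h ⊢
    rw [ha, hb, ← mul_add, mul_eq_zero_iff_left card_ne_zero, ← Nat.cast_add, Nat.cast_eq_zero,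
      Nat.add_eq_zero_iff] at h
    rw [k1 (by simp [ha, h.1]), k2 (by simp [hb, h.2]), add_zero]

theorem exists_mult (hθ : IsCharacter G θ) {n : ℤ} (h : ∀ x ∈ P, x ≠ 1 → θ x = n) :
    ∑ x : P, θ x = charDegree θ + (Nat.card P - 1) * n ∧
      ∃ a : ℕ, (charDegree θ : ℤ) + (Nat.card P - 1) * n = Nat.card P * a := by
  have k : ∑ x : P, θ x = charDegree θ + (Nat.card P - 1) * n := by
    rw [← Finset.add_sum_erase _ _ (Finset.mem_univ 1), Finset.sum_congr (s₁ := Finset.univ.erase (1 : P))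
      rfl (g := fun _ => (n : ℂ)) fun x hx => h x x.2 (by simpa using hx), Finset.sum_const,
      Finset.card_erase_of_mem (Finset.mem_univ _), Finset.card_univ, ← Nat.card_eq_fintype_card,
      nsmul_eq_mul, Nat.cast_pred Nat.card_pos, charDegree_cast hθ, coe_one]
  obtain ⟨a, ha⟩ := classInner_isChar_nat (isChar_res P hθ) isChar_one
  rw [classInner_one_right, inv_mul_eq_iff_eq_mul₀ card_ne_zero, k] at ha
  exact ⟨k, a, by exact_mod_cast ha⟩

/-- `χ(1) - χ(u)` is constant on the nontrivial characters of the principal block. -/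
def Cst (M : Ideal AlgInt) (u : G) (k : ℂ) : Prop :=
  ∀ χ : IrrCharacter G, χ ∈ principalBlock M G → χ.1 ≠ (fun _ => 1) → χ.1 1 - χ.1 u = k

variable {u : G} {k : ℂ}

theorem Cst.sum (h : Cst M u k) (hM : IsPModular 2 M) (F : IrrCharacter G → ℂ) :
    ∑ χ with χ ∈ principalBlock M G, χ.1 1 * F χ - ∑ χ with χ ∈ principalBlock M G, χ.1 u * F χ =
      k * ∑ χ ∈ (Finset.univ.filter (· ∈ principalBlock M G)).erase (oneIrr G), F χ := by
  rw [← Finset.sum_sub_distrib, ← Finset.add_sum_erase (a := oneIrr G) _ _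
    (Finset.mem_filter.2 ⟨Finset.mem_univ _, oneIrr_mem_principalBlock hM⟩), Finset.mul_sum,
    show (oneIrr G).1 u = (oneIrr G).1 1 from rfl, sub_self, zero_add]
  exact Finset.sum_congr rfl fun χ hχ => by
    rw [← sub_mul, h χ (Finset.mem_filter.1 (Finset.mem_of_mem_erase hχ)).2
      fun e => Finset.ne_of_mem_erase hχ (Subtype.ext e)]

theorem Cst.ne_zero (h : Cst M u k) (hM : IsPModular 2 M) (hu : u ∉ pPrimeCore 2 G) : k ≠ 0 := by
  rintro rfl
  refine hu ((setKer_principal hM).le <| mem_setKer.2 fun χ hχ => (mem_charKer_iff (irr_isChar χ)).2 ?_)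
  by_cases e : χ.1 = fun _ => 1
  · rw [e]
  · exact (sub_eq_zero.1 (h χ hχ e)).symm

theorem Cst.isConj (h : Cst M u k) (hM : IsPModular 2 M) (hk : k ≠ 0) {x : G}
    (hx : ∃ j, orderOf x = 2 ^ j) (x1 : x ≠ 1) : IsConj (pp 2 u) x := by
  by_contra e
  have := charP_F hM
  have hB := isV_blockIdem hM (isPBlock_principalBlock (G := G))
  have hx' := isPPart_self hM.1 hx
  have h1 := block_orth hM hB (isPPart_one (y := (1 : G)) (by simp)) hx'
    (by simpa using x1.symm)
  have h2 := h.sum hM fun χ => χ.1 x⁻¹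
  rw [h1, block_orth hM hB (isPPart_pp hM.1 u) hx' e, sub_self, eq_comm,
    mul_eq_zero_iff_left hk] at h2
  have h3 : ∀ χ : IrrCharacter G, red M (χ.1 x⁻¹) = charDegree χ.1 := fun χ => by
    rw [← mul_one x⁻¹, red_char_mul hM (irr_isChar χ) (by rwa [orderOf_inv]) (Commute.one_right _),
      ← charDegree_cast (irr_isChar χ), red_natCast]
  have h4 := congrArg (red M) h1
  have h5 := congrArg (red M) h2
  rw [red_sum _ fun χ _ => mul_mem (irr_mem_V χ _) (irr_mem_V χ _),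
    Finset.sum_congr rfl (g := fun χ => (charDegree χ.1 : F M)) fun χ _ => by
      rw [red_mul (irr_mem_V χ _) (irr_mem_V χ _), h3, ← charDegree_cast (irr_isChar χ),
        red_natCast, ← Nat.cast_mul, CharP.natCast_eq_natCast (F M) 2]
      rcases Nat.mod_two_eq_zero_or_one (charDegree χ.1) with k | k <;>
        simp [Nat.ModEq, Nat.mul_mod, k],
    ← Finset.add_sum_erase (a := oneIrr G) _ _
    (Finset.mem_filter.2 ⟨Finset.mem_univ _, oneIrr_mem_principalBlock hM⟩)] at h4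
  simp only [red_sum _ fun χ _ => irr_mem_V χ _, h3] at h5
  rw [h5, add_eq_right, show charDegree (oneIrr G).1 = 1 from charDegree_one_fun] at h4
  simp at h4

theorem Cst.one (h : Cst M u k) (hM : IsPModular 2 M) (hk : k ≠ 0) {t : G} (t2 : orderOf t = 2) :
    One G ∧ orderOf (pp 2 u) = 2 := by
  have k1 : ∀ s : G, orderOf s = 2 → IsConj (pp 2 u) s := fun s hs =>
    h.isConj hM hk ⟨1, hs⟩ (LocalEven.ne_one_of_orderOf_eq hs)
  have k2 : ∀ {a b : G}, IsConj a b → orderOf a = orderOf b := fun e => by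
    obtain ⟨c, rfl⟩ := isConj_iff.1 e
    exact ((MulAut.conj c).orderOf_eq _).symm
  refine ⟨⟨fun g hg => ?_, fun a b ha hb => (k1 a ha).symm.trans (k1 b hb)⟩, (k2 (k1 t t2)).trans t2⟩
  by_cases e : g = 1
  · simp [e]
  · exact Inv.mul_self_of_two ((k2 (h.isConj hM hk hg e)).symm.trans ((k2 (k1 t t2)).trans t2))

theorem Cst.small (h : Cst M u k) (hM : IsPModular 2 M) (hP : AbSyl 2 P) (hu : 2 ∣ orderOf u) :
    ∃ n : ℤ, k = n ∧ ∃ χ ∈ principalBlock M G, χ.1 ≠ (fun _ => 1) ∧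
      charDegree χ.1 < Nat.card P := by
  have hB := isV_blockIdem hM (isPBlock_principalBlock (G := G))
  have hq : (2 ^ (Nat.card G).factorization 2 : ℂ) = Nat.card P := by
    rw [← hP.pow_factorization le_top, card_top]
    norm_cast
  choose c hc using fun ψ : IrrCharacter G => exists_int_pow_mul_inner hM.1 (oneIrr G)
    (n := (Nat.card G).factorization 2) le_add_self (irr_isGenChar ψ)
  have h1 := h.sum hM fun ψ => c ψ
  have h2 : ∀ g, ∑ χ with χ ∈ principalBlock M G, χ.1 g * c χ =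
      Nat.card P * pRegularPart 2 (oneIrr G).1 g := fun g => by
    rw [← blockPart_irr_of_mem (oneIrr_mem_principalBlock hM), ← blockPart_pRegularPart hM hB,
      blockPart_eq_sum, Finset.mul_sum]
    exact Finset.sum_congr rfl fun χ _ => by rw [← hc, ← hq]; push_cast; ring
  rw [h2, h2, pRegularPart_of_dvd hu, pRegularPart_of_not_dvd (by simp), mul_zero, sub_zero,
    show (oneIrr G).1 1 = 1 from rfl, mul_one, ← Int.cast_sum] at h1
  set s := (Finset.univ.filter (· ∈ principalBlock M G)).erase (oneIrr G)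
  have hs : ∀ χ ∈ s, χ ∈ principalBlock M G ∧ χ.1 ≠ fun _ => 1 := fun χ hχ =>
    ⟨(Finset.mem_filter.1 (Finset.mem_of_mem_erase hχ)).2,
      fun e => Finset.ne_of_mem_erase hχ (Subtype.ext e)⟩
  have h0 : ∑ χ ∈ s, c χ ≠ 0 := fun e => card_ne_zero (G := P) (by simpa [e] using h1)
  obtain ⟨χ, hχ, -⟩ := Finset.exists_ne_zero_of_sum_ne_zero h0
  obtain ⟨n, hn⟩ : (∑ χ ∈ s, c χ) ∣ Nat.card P := int_dvd_of_isIntegral_div h0 (by
    rw [Int.cast_natCast, h1, mul_div_cancel_right₀ _ (Int.cast_ne_zero.2 h0),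
      ← h χ (hs χ hχ).1 (hs χ hχ).2]
    exact (isIrr_isIntegral χ.2 1).sub (isIrr_isIntegral χ.2 u))
  have h3 : k = n := mul_right_cancel₀ (Int.cast_ne_zero.2 h0) (by
    rw [← h1, mul_comm]
    exact_mod_cast hn)
  have h4 := h.sum hM fun χ => conj (χ.1 1)
  have h5 := congrArg conj (weak_block_orth hM hB (x := 1) (by simp) hu)
  simp only [map_sum, map_mul, Complex.conj_conj, map_zero, mul_comm (conj _)] at h5
  rw [h5, sub_zero, ← Finset.add_sum_erase (a := oneIrr G) _ _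
    (Finset.mem_filter.2 ⟨Finset.mem_univ _, oneIrr_mem_principalBlock hM⟩), h3] at h4
  simp only [← charDegree_cast (irr_isChar _), map_natCast,
    show charDegree (oneIrr G).1 = 1 from charDegree_one_fun] at h4
  norm_cast at h4
  refine ⟨n, h3, ?_⟩
  by_contra! k
  have h6 := Finset.sum_le_sum (s := s) (f := fun χ => Nat.card P * charDegree χ.1)
    (g := fun χ => charDegree χ.1 * charDegree χ.1) fun χ hχ =>
      Nat.mul_le_mul_right _ (k χ (hs χ hχ).1 (hs χ hχ).2)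
  have h7 : n ≤ Nat.card P := Int.le_of_dvd (by exact_mod_cast Nat.card_pos) ⟨_, hn.trans (mul_comm _ _)⟩
  rw [← Finset.mul_sum] at h6
  have h8 := mul_le_mul_of_nonneg_right h7 (Int.natCast_nonneg (∑ χ ∈ s, charDegree χ.1))
  zify at h6
  push_cast at h4 h8
  linarith

theorem Cst.eq_top (h : Cst M u k) (hM : IsPModular 2 M) (hP : AbSyl 2 P) (hk : k ≠ 0) {n : ℤ}
    (hn : k = n) {N : Subgroup G} [N.Normal] (hN : CC P ≤ N) : N = ⊤ := by
  by_contra e
  obtain ⟨S, rfl⟩ := exists_sylow hP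
  have ho := odd_index hP (hP.comm.trans hN)
  have := S0205.result (G := G ⧸ N) ho
  have : Nontrivial (G ⧸ N) := QuotientGroup.nontrivial_iff.2 e
  obtain ⟨z, hz⟩ : ∃ z, z ∉ commutator (G ⧸ N) := by
    by_contra! k
    exact (IsSolvable.commutator_lt_top_of_nontrivial (G ⧸ N)).ne (eq_top_iff.2 fun z _ => k z)
  obtain ⟨ψ, h1, h2, h3⟩ := exists_irr_of_not_mem _ hz
  have h4 := (isIrr_degree_one_iff h1).2 h2
  have h5 := h ⟨_, isIrr_inflate N h1⟩ (mem_principal_of_centralizer_le hM S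
    (by rw [charDegree_of_eq (n := 1) (by simpa using h4)]; norm_num)
    (hN.trans (le_charKer_inflate N ψ))) fun e => h3 ((mem_charKer_iff (isIrr_isChar h1)).2 (by
      obtain ⟨z, rfl⟩ := QuotientGroup.mk_surjective z
      rw [h4]
      exact congrFun e z))
  obtain ⟨lam, rfl⟩ := isChar_linear_of_degree_one (isIrr_isChar h1) h4
  have h6 := linear_pow_orderOf lam (u : G ⧸ N)
  simp only [QuotientGroup.mk_one, map_one, Units.val_one, hn] at h5
  rw [show (lam u : ℂ) = (1 - n : ℤ) by push_cast; linear_combination -h5] at h6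
  norm_cast at h6
  exact hk (by rw [hn, sub_eq_self.1 ((ho.of_dvd_nat (orderOf_dvd_natCard _)).pow_inj.1
    (h6.trans (one_pow _).symm)), Int.cast_zero])

theorem exists_inv_of_ne_bot (hO : pPrimeCore 2 G = ⊥) {N : Subgroup G} [N.Normal] (h : N ≠ ⊥) :
    ∃ t ∈ N, orderOf t = 2 := LocalEven.exists_mem_orderOf_eq (by_contra fun k => h (le_bot_iff.1
      (hO ▸ Core.le_pPrimeCore inferInstance ((Nat.prime_two.coprime_iff_not_dvd.2 k).symm))))

theorem One.ab (h : One G) (S : Sylow 2 G) : AbSyl 2 (S : Subgroup G) :=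
  ab_sylow S ⟨⟨fun a b => Subtype.ext (Gs.comm_of_sq (fun _ hs =>
    h.sq _ (exists_orderOf_eq_pow_of_mem Nat.prime_two S.isPGroup' hs)) a.2 b.2)⟩⟩

theorem One.two (h : One G) (hP : AbSyl 2 P) {x : G} (hx : x ∈ P) (x1 : x ≠ 1) : orderOf x = 2 :=
  two_of_sq (h.sq x (ab_order hP hx)) x1

theorem One.le_normal (h : One G) (hP : AbSyl 2 P) (hO : pPrimeCore 2 G = ⊥) {N : Subgroup G}
    [hN : N.Normal] (h0 : N ≠ ⊥) : P ≤ N := fun x hx => by
  obtain ⟨t, ht, t2⟩ := exists_inv_of_ne_bot hO h0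
  by_cases x1 : x = 1
  · exact x1 ▸ one_mem N
  obtain ⟨c, rfl⟩ := isConj_iff.1 (h.conj t x t2 (h.two hP hx x1))
  exact hN.conj_mem t ht c

theorem One.simple (h : One G) (hP : AbSyl 2 P) (hO : pPrimeCore 2 G = ⊥) (h0 : P ≠ ⊥)
    (hL : normalClosure (P : Set G) ⊔ CC P = ⊤) : IsSimpleGroup (normalClosure (P : Set G)) := by
  set L := normalClosure (P : Set G)
  have hPL : P ≤ L := le_normalClosure
  have hP' := ab_sub hP hPL
  have h1 : One L := by
    obtain ⟨S, hS⟩ := exists_sylow hP'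
    refine one_of_sylow S (fun s hs => Subtype.ext (h.sq _ (ab_order hP (x := s) (hS.le hs))))
      fun a ha b hb a1 b1 => ?_
    obtain ⟨c, hc⟩ := isConj_iff.1 (h.isConj hP (x := a) (y := b) (hS.le ha) (by simpa using a1)
      (hS.le hb) (by simpa using b1))
    obtain ⟨l, hl, z, hz, rfl⟩ := mem_sup_of_normal_left.1 (hL.ge (mem_top c))
    exact isConj_iff.2 ⟨⟨l, hl⟩, Subtype.ext (hc ▸ by
      simp only [coe_mul, coe_inv, mul_assoc, ← hz a (hS.le ha), mul_inv_rev, mul_inv_cancel_left])⟩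
  have : Nontrivial L := (nontrivial_iff_ne_bot L).2 fun e => h0 (le_bot_iff.1 (e ▸ hPL))
  refine ⟨fun N hN => or_iff_not_imp_left.2 fun hN0 => ?_⟩
  have h2 : pPrimeCore 2 L = ⊥ := by rw [Core.pPrimeCore_eq_subgroupOf, hO, bot_subgroupOf]
  refine top_le_iff.1 fun x _ => ?_
  have h3 : L ≤ closure {s : G | orderOf s = 2} := by
    have : (closure {s : G | orderOf s = 2}).Normal := ⟨fun n hn g =>
      closure_induction (fun s hs => subset_closure (((MulAut.conj g).orderOf_eq s).trans hs))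
        (by simp) (fun a b _ _ ha hb => by simpa using mul_mem ha hb)
        (fun a _ ha => by simpa [mul_assoc] using inv_mem ha) hn⟩
    exact normalClosure_le_normal fun s hs => (eq_or_ne s 1).elim (· ▸ one_mem _)
      fun s1 => subset_closure (h.two hP hs s1)
  obtain ⟨t, ht, t2⟩ := exists_inv_of_ne_bot h2 hN0
  have h4 : closure {s : G | orderOf s = 2} ≤ N.map L.subtype := (closure_le _).2 fun s hs => by
    obtain ⟨c, rfl⟩ := isConj_iff.1 (h.conj t s ((orderOf_coe t).trans t2) hs)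
    have hm : c * t * c⁻¹ ∈ L := Normal.conj_mem inferInstance _ t.2 c
    obtain ⟨d, hd⟩ := isConj_iff.1 (h1.conj t ⟨_, hm⟩ t2 ((orderOf_coe _).symm.trans hs))
    exact ⟨_, hd ▸ hN.conj_mem t ht d, rfl⟩
  obtain ⟨y, hy, e⟩ := h4 (h3 x.2)
  exact Subtype.ext e ▸ hy

theorem Cst.main (h : Cst M u k) (hM : IsPModular 2 M) (hO : pPrimeCore 2 G = ⊥) (u1 : u ≠ 1) :
    Nat.card G = 2 ∨ CIT.F.L2E G ∧ u ^ 2 = 1 := by
  have hk := h.ne_zero hM (by rwa [hO])
  have : Nontrivial G := ⟨⟨u, 1, u1⟩⟩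
  obtain ⟨t₀, -, t0⟩ := exists_inv_of_ne_bot hO (N := ⊤) top_ne_bot
  obtain ⟨h1, h2⟩ := h.one hM hk t0
  obtain ⟨S⟩ : Nonempty (Sylow 2 G) := inferInstance
  have hP := h1.ab S
  obtain ⟨c, ht⟩ := hP.exists_conj_mem (u := t₀) ⟨1, t0⟩
  have t2 : orderOf (c * t₀ * c⁻¹) = 2 := ((MulAut.conj c).orderOf_eq _).trans t0
  generalize c * t₀ * c⁻¹ = t at ht t2
  have t1 := LocalEven.ne_one_of_orderOf_eq t2
  obtain ⟨n, hn, χ, k1, k2, k3⟩ := h.small hM hP (by_contra fun e => by
    rw [pp_of_regular hM.1 e, orderOf_one] at h2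
    omega)
  set L := normalClosure ((S : Subgroup G) : Set G)
  have hPL : (S : Subgroup G) ≤ L := le_normalClosure
  have hL : L ⊔ CC (S : Subgroup G) = ⊤ := by
    have : (L ⊔ CC (S : Subgroup G)).Normal := normalizer_eq_top_iff.1 (top_le_iff.1
      ((frattini hP hPL).ge.trans (sup_le (le_sup_left.trans le_normalizer) (Core.le_normalizer_sup
        (le_top.trans (normalizer_eq_top L).ge) (Core.normalizer_le_normalizer_centralizer _)))))
    exact h.eq_top hM hP hk hn le_sup_right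
  by_cases hc : IsMulCommutative L
  · have k4 : CC (S : Subgroup G) = ⊤ := by
      rw [← hL, right_eq_sup]
      exact fun a ha b hb => setLike_mul_comm (hPL hb) ha
    have k5 := (pgroup_of_npc hO (npc_of_le hP le_top (le_top.trans k4.ge))).of_equiv topEquiv
    refine .inl ((Nat.card_eq_two_iff' 1).2 ⟨t, t1, fun g hg => ?_⟩)
    obtain ⟨a, rfl⟩ := isConj_iff.1 (h1.conj t g t2
      (two_of_sq (h1.sq g (IsPGroup.iff_orderOf.1 k5 g)) hg))
    exact mul_inv_eq_iff_eq_mul.2 (k4.ge (mem_top a) t ht).symm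
  have := h1.simple hP hO (fun e => t1 (mem_bot.1 (e ▸ ht))) hL
  have hχ := irr_isChar χ
  have k4 : charKer χ.1 = ⊥ := by_contra fun e => by
    have := charKer_normal (irr_classFun χ)
    have k := h1.le_normal hP hO e
    exact k2 (isIrr_eq_one_of_charKer_eq_top χ.2 (h.eq_top hM hP hk hn
      (centralizer_le_charKer_of_principal hM S (odd_index hP k).not_two_dvd_nat le_rfl k1)))
  obtain ⟨m, hm⟩ := int_of_sq_mem_ker hχ (g := t) (by rw [Inv.mul_self_of_two t2])
  have k5 : ∀ s, orderOf s = 2 → χ.1 s = m := fun s hs =>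
    (classFun_isConj (irr_classFun χ) (h1.conj s t hs t2)).trans hm
  obtain ⟨k6, a, ha⟩ := exists_mult (P := S) hχ fun x hx x1 => k5 x (h1.two hP hx x1)
  have k7 : m < charDegree χ.1 := by
    have := isChar_norm_le hχ t (charDegree_cast hχ).symm
    rw [hm, Complex.norm_intCast] at this
    refine lt_of_le_of_ne (le_of_abs_le (by exact_mod_cast this)) fun e => t1 (mem_bot.1
      (k4 ▸ (mem_charKer_iff hχ).2 ?_))
    rw [hm, e, Int.cast_natCast, charDegree_cast hχ]
  have k8 : 2 ≤ Nat.card S := t2.ge.trans (Nat.le_of_dvd Nat.card_pos (orderOf_dvd_natCard _ ht))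
  obtain ⟨k9, rfl⟩ : (charDegree χ.1 : ℤ) + 1 = Nat.card S ∧ m = -1 := by
    zify at k3 k8
    have b : m < a := by nlinarith
    have c : a ≤ m + 1 := by nlinarith
    obtain rfl : m = a - 1 := by omega
    constructor <;> nlinarith
  have h3 : CIT.F.L2E L := l2e_of_char hc (ab_sub hP hPL) (isChar_res L hχ)
    (by rw [Nat.card_congr (subgroupOfEquivOfLe hPL).toEquiv]; exact_mod_cast k9)
    fun s hs => by simpa using k5 s ((orderOf_coe s).trans hs)
  have h4 : Free (S : Subgroup G) := fun x hx x1 g hg => by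
    obtain ⟨l, hl, z, hz, rfl⟩ := mem_sup_of_normal_left.1 (hL.ge (mem_top g))
    have a := congrArg Subtype.val (l2e_cz h3 (t := ⟨x, hPL hx⟩) (c := ⟨l, hl⟩)
      ((orderOf_coe _).symm.trans (h1.two hP hx x1)) (mem_Cx.2 (Subtype.ext (mem_Cx.1
        ((mul_mem_cancel_right (CC_le_Cx hx hz)).1 hg.2)))))
    refine mul_mem (hP.comm (hP.mem_of_normalizer ?_
      ((mul_mem_cancel_right (CC_le_NN hz)).1 hg.1))) hz
    exact ((Nat.dvd_prime_pow Nat.prime_two (m := 1)).1
      (orderOf_dvd_of_pow_eq_one ((sq l).trans a))).imp fun _ k => k.2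
  have h5 : CC (S : Subgroup G) ≤ L := fun g hg => by
    have a := hP.pp_mem hg
    have b : pr 2 g ∈ CC (S : Subgroup G) :=
      (mul_mem_cancel_left (hP.comm a)).1 ((pp_mul_pr (p := 2) g).symm ▸ hg)
    have c := sum_mul_eq_zero (Z := (S : Subgroup G).subgroupOf (CC (S : Subgroup G)))
      (fun x hx => mem_center_iff.2 fun y => Subtype.ext (y.2 x hx).symm) (isChar_res _ hχ) ⟨_, b⟩
    rw [← (subgroupOfEquivOfLe hP.comm).symm.toEquiv.sum_comp,
      ← (subgroupOfEquivOfLe hP.comm).symm.toEquiv.sum_comp] at c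
    replace c : ∑ x : (S : Subgroup G), χ.1 (x * pr 2 g) = 0 := c (k6.trans (by
      rw [← Int.cast_natCast (Nat.card _), ← k9]
      simp))
    rw [← Finset.add_sum_erase _ _ (Finset.mem_univ 1), Finset.sum_congr
      (s₁ := Finset.univ.erase (1 : (S : Subgroup G))) rfl (g := fun x => χ.1 x) fun x hx =>
        principal_const_on_section hM (npc_of_le hP (le_Cx hP x.2) (h4 x x.2 (by simpa using hx)))
          k1 ((pp_eq_iff hM.1).1 (pp_mul hM.1 (ab_order hP x.2) (pr_regular hM.1 g) (b x x.2)))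
          (IsConj.refl _), ← add_left_inj (χ.1 1), add_assoc] at c
    rw [show χ.1 1 = χ.1 (1 : (S : Subgroup G)) from rfl, Finset.sum_erase_add _ _ (Finset.mem_univ _),
      k6, ← Int.cast_natCast (Nat.card _), ← k9] at c
    rw [← pp_mul_pr (p := 2) g, mem_bot.1 (k4.le ((mem_charKer_iff hχ (z := pr 2 g)).2 (by simpa using c))),
      mul_one]
    exact hPL a
  have h6 := h3.equiv ((MulEquiv.subgroupCongr ((left_eq_sup.2 h5).trans hL)).trans topEquiv)
  exact .inr ⟨h6, (sq u).trans (l2e_cz h6 h2 (mem_Cx.2 (commute_pp hM.1 u).symm))⟩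

theorem sl_val {F : Type*} [Field F] [Fintype F] (h2 : (2 : F) = 0)
    {χ : Matrix.SpecialLinearGroup (Fin 2) F → ℂ} (hχ : IsIrrCharacter _ χ) (h1 : χ ≠ fun _ => 1)
    {s : Matrix.SpecialLinearGroup (Fin 2) F} (s1 : s ≠ 1) (s2 : s * s = 1) :
    χ 1 - χ s = Fintype.card F := by
  have e := congrArg Subtype.val s2
  have d := s.2
  rw [Matrix.det_fin_two] at d
  have e0 := congrFun (congrFun e 0) 0
  have e1 := congrFun (congrFun e 1) 1
  simp [Matrix.mul_apply, Fin.sum_univ_two] at e0 e1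
  have ht : s.1.trace = 1 + 1 := by
    rw [Matrix.trace_fin_two, one_add_one_eq_two, h2]
    refine pow_eq_zero_iff two_ne_zero |>.1 ?_
    linear_combination e0 + e1 + (s.1 0 0 * s.1 1 1 - s.1 0 1 * s.1 1 0 + 1) * h2
  have hs : ¬ GL2.Sc s.1 := fun k => s1 (Subtype.ext (k.eq.trans (by
    have : s.1 0 0 = 1 := sub_eq_zero.1 (pow_eq_zero_iff two_ne_zero |>.1 (by
      rw [k.1, zero_mul, add_zero] at e0
      linear_combination e0 + (1 - s.1 0 0) * h2))
    rw [this, ← Matrix.one_fin_two]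
    rfl)))
  have hd : s.1.det = 1 * 1 := s.2.trans (mul_one _).symm
  obtain ⟨a, b, hab⟩ := GL2.exists_quad F
  have := Fact.mk hab
  rcases GL2.complete_SL (a := a) (b := b) hχ with e | rfl | ⟨α, -, rfl⟩ | ⟨η, -, rfl⟩ |
    ⟨_, _, -, -, k⟩ | ⟨_, _, -, -, k⟩
  · exact absurd e h1
  · rw [GL2.Sts_one, GL2.Sts, Pi.sub_apply, GL2.PSs, GL2.R_split _ hs ht hd]
    simp
  · rw [GL2.PSs_one, GL2.PSs, GL2.R_split _ hs ht hd]
    simp
  · rw [GL2.Cus_one, GL2.Cus, GL2.C_split _ hs ht hd]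
    simp [GL2.xU_one]
  · exact absurd h2 k.two_ne
  · exact absurd h2 k.two_ne

theorem cst_of_l2e (h : CIT.F.L2E G) (u1 : u ≠ 1) (u2 : u ^ 2 = 1) : ∃ k, Cst M u k := by
  obtain ⟨F, _, _, n, hn, hF, ⟨e⟩⟩ := h
  have h2 : (2 : F) = 0 := by
    have := ringChar.spec F 2
    rw [CIT.F.ringChar_of_card Nat.prime_two hF] at this
    exact_mod_cast this.2 dvd_rfl
  obtain ⟨s, hs⟩ := QuotientGroup.mk_surjective (e u)
  refine ⟨Fintype.card F, fun χ _ h1 => ?_⟩
  have := sl_val h2 (isIrr_inflate _ (isIrr_comp_equiv e.symm χ.2)) (s := s)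
    (fun k => h1 (funext fun g => by
      obtain ⟨x, hx⟩ := QuotientGroup.mk_surjective (e g)
      simpa [hx] using congrFun k x))
    (fun k => u1 (e.map_eq_one_iff.1 (by rw [← hs, k, QuotientGroup.mk_one])))
    ((Classical.SL2Basic.mem_center_iff.1 ((QuotientGroup.eq_one_iff _).1 (by
      rw [QuotientGroup.mk_mul, hs, ← map_mul, ← sq, u2, map_one]))).elim id fun k => k.trans
        (Subtype.ext (neg_eq_iff_add_eq_zero.2 (by rw [← two_smul F, h2, zero_smul]))))
  simpa [hs] using this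

theorem cst_of_two (h : Nat.card G = 2) (u1 : u ≠ 1) : Cst M u 2 := fun χ _ h1 => by
  have := isCyclic_of_prime_card h
  obtain ⟨lam, e⟩ := isIrr_linear_of_comm χ.2
  obtain ⟨y, -, hy⟩ := (Nat.card_eq_two_iff' (1 : G)).1 h
  have k : (lam u : ℂ) * lam u = 1 := by
    rw [← Units.val_mul, ← map_mul, ← sq, ← h, pow_card_eq_one', map_one, Units.val_one]
  rw [e] at h1 ⊢
  rcases mul_self_eq_one_iff.1 k with k | k
  · exact absurd (funext fun g => (eq_or_ne g 1).elim (fun e => by simp [e]) fun e => by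
      rwa [(hy g e).trans (hy u u1).symm]) h1
  · simp only [k, map_one, Units.val_one]
    norm_num

theorem cst_iff (hM : IsPModular 2 M) (hO : pPrimeCore 2 G = ⊥) : (∃ k, Cst M u k) ↔
    u = 1 ∨ (Nat.card G = 2 ∧ u ≠ 1) ∨ CIT.F.L2E G ∧ u ≠ 1 ∧ u ^ 2 = 1 := by
  refine ⟨fun ⟨k, h⟩ => or_iff_not_imp_left.2 fun u1 => ?_, ?_⟩
  · exact (h.main hM hO u1).imp (⟨·, u1⟩) fun k => ⟨k.1, u1, k.2⟩
  · rintro (rfl | ⟨h, u1⟩ | ⟨h, u1, u2⟩)
    exacts [⟨0, fun _ _ _ => sub_self _⟩, ⟨_, cst_of_two h u1⟩, cst_of_l2e h u1 u2]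

theorem cst_quot (hM : IsPModular 2 M) [Fintype (G ⧸ pPrimeCore 2 G)] :
    Cst M u k ↔ Cst M (u : G ⧸ pPrimeCore 2 G) k := by
  have hf := QuotientGroup.mk'_surjective (pPrimeCore 2 G)
  have h := principal_odd hM hf (by
    rw [QuotientGroup.ker_mk']
    exact Core.not_dvd_card_pPrimeCore Nat.prime_two)
  refine ⟨fun k ψ h1 h2 => k (inflIrr _ hf ψ) (h ▸ ⟨ψ, h1, rfl⟩) fun e => h2 (funext fun g =>
    g.inductionOn (congrFun e)), fun k χ h1 h2 => ?_⟩
  obtain ⟨ψ, h3, rfl⟩ := h.le h1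
  exact k ψ h3 fun e => h2 (funext fun g => congrFun e g)

end Cfsg.Agent.Blk2
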